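import Groth.Agent.BunMod.K524.PushO
import Groth.Agent.AdjLin.K800.MulMap

/-!
# `H⁰`-Künneth: global sections of `p₁^* N ⊗ p₂^* M` are sums of products
-/

set_option autoImplicit false
universe u
open CategoryTheory CategoryTheory.Limits AlgebraicGeometry TopologicalSpace Opposite TensorProduct

namespace K524.KunProd

open Groth.Agent Groth.Agent.VarietyB Groth.Agent.VarietyB.FlatH0 Groth.Agent.VarietyB.TensLoc
open Groth.Agent.VarietyB.PullLoc Groth.Agent.CurvesB Groth.Agent.Ega2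
open Groth.Agent.Ega2.Tens (eta pt)
open Groth.Agent.VarietyB.ProjForm Groth.Agent.VarietyB.TensCoh K524.AddC K524.FlatPush

variable {X Y P S : Scheme.{u}}

/-- The subgroup generated by the products of pulled back global sections. -/
noncomputable def bprods (p₁ : P ⟶ X) (p₂ : P ⟶ Y) (N : X.Modules) (M : Y.Modules) :
    AddSubgroup Γ(CohB1.tensorMod ((Scheme.Modules.pullback p₁).obj N) ((Scheme.Modules.pullback p₂).obj M), ⊤) :=
  AddSubgroup.closure {t | ∃ (n : Γ(N, ⊤)) (m : Γ(M, ⊤)), t = tmul (pullTop p₁ n) (pullTop p₂ m)}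

theorem mem_bprods (p₁ : P ⟶ X) (p₂ : P ⟶ Y) {N : X.Modules} {M : Y.Modules} (n : Γ(N, ⊤)) (m : Γ(M, ⊤)) :
    tmul (pullTop p₁ n) (pullTop p₂ m) ∈ bprods p₁ p₂ N M :=
  AddSubgroup.subset_closure ⟨n, m, rfl⟩

variable {x : X ⟶ S} {y : Y ⟶ S} {p₁ : P ⟶ X} {p₂ : P ⟶ Y}

theorem kunneth (H : IsPullback p₂ p₁ y x) [Flat x] [IsAffine S] [CompactSpace Y] [QuasiSeparatedSpace Y]
    (M : Y.Modules) (hM : Coh.IsQCoh M) {n : ℕ}
    (b : letI := modOver y M (US := ⊤) (UX := ⊤) le_top; Module.Basis (Fin n) Γ(S, ⊤) Γ(M, ⊤))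
    {N : X.Modules} (hN : HasBases N)
    (t : Γ(CohB1.tensorMod ((Scheme.Modules.pullback p₁).obj N) ((Scheme.Modules.pullback p₂).obj M), ⊤)) :
    t ∈ bprods p₁ p₂ N M := by
  have hb := isBasis_psec H M hM b
  let W := (Scheme.Modules.pushforward p₁).obj ((Scheme.Modules.pullback p₂).obj M)
  have hp : IsIso (projMor p₁ N ((Scheme.Modules.pullback p₂).obj M)) := isIso_projMor p₁ hN _
  let φ := asIso (projMor p₁ N ((Scheme.Modules.pullback p₂).obj M))
  let t' : Γ((Scheme.Modules.pushforward p₁).obj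
    (CohB1.tensorMod ((Scheme.Modules.pullback p₁).obj N) ((Scheme.Modules.pullback p₂).obj M)), ⊤) := t
  obtain ⟨s, hs⟩ : ∃ s : Γ(CohB1.tensorMod N W, ⊤), φ.hom.app ⊤ s = t' :=
    ⟨φ.inv.app ⊤ t', TensPow.app_symm_app φ t'⟩
  obtain ⟨s', hs'⟩ : ∃ s' : Γ(CohB1.tensorMod W N, ⊤), (Tens.swap W N).hom.app ⊤ s' = s :=
    ⟨(Tens.swap W N).inv.app ⊤ s, TensPow.app_symm_app (Tens.swap W N) s⟩
  obtain ⟨a, rfl⟩ := tcomb_surjective hb N (le_refl _) s'
  rw [tcomb_apply] at hs'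
  have h1 : t' = ∑ i, (tmul (pullTop p₁ (a i)) (pullTop p₂ (b i)) :
      Γ(CohB1.tensorMod ((Scheme.Modules.pullback p₁).obj N) ((Scheme.Modules.pullback p₂).obj M), ⊤)) := by
    rw [← hs, ← hs', map_sum, map_sum]
    refine Finset.sum_congr rfl fun i _ => ?_
    have h2 : (Tens.swap W N).hom.app ⊤ (tmul (res W (le_refl _) (psec p₁ p₂ (b i) ⊤)) (a i)) =
      tmul (a i) (res W (le_refl _) (psec p₁ p₂ (b i) ⊤)) := TensPow.swap_tmul _ _
    rw [h2, res_self]
    refine (projMor_tmul p₁ N ((Scheme.Modules.pullback p₂).obj M) (a i) _).trans ?_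
    congr 1
    change res ((Scheme.Modules.pullback p₂).obj M) _ _ = _
    exact res_self _ _ _
  change t' ∈ _
  rw [h1]
  exact AddSubgroup.sum_mem _ fun i _ => mem_bprods _ _ _ _

/-- The version over a field. -/
theorem kunneth_field {k : Type u} [Field k] {x : X ⟶ Spec (CommRingCat.of k)} {y : Y ⟶ Spec (CommRingCat.of k)}
    (H : IsPullback p₂ p₁ y x) [IsProper y] {M : Y.Modules} (hM : Coh.IsCoh M)
    {N : X.Modules} (hN : HasBases N)
    (t : Γ(CohB1.tensorMod ((Scheme.Modules.pullback p₁).obj N) ((Scheme.Modules.pullback p₂).obj M), ⊤)) :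
    t ∈ bprods p₁ p₂ N M := by
  obtain ⟨n, ⟨b⟩⟩ := PushO.exists_basis y hM
  have : CompactSpace Y := QuasiCompact.compactSpace_of_compactSpace y
  have : QuasiSeparatedSpace Y := quasiSeparatedSpace_of_quasiSeparated y
  exact kunneth H M hM.1 b hN t

end K524.KunProd
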