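import Groth.Agent.BunMod.K524.Restr2
import Groth.Agent.BunMod.K524.KunProd
import Groth.Agent.PerfA.CohSerre

/-!
# Surjectivity of the multiplication maps on a principally polarised abelian variety (node F6)

`mulSurj_of_verD`: for `[r]^* E ≅ (L^(r m))^(+v)` with `m ≥ 2 r + 1`, the multiplication map
`H⁰(E) ⊗ H⁰(E) → H⁰(E ⊗ E)` is surjective (Pareschi's method).
-/

set_option autoImplicit false
universe u
open CategoryTheory CategoryTheory.Limits MonoidalCategory CartesianMonoidalCategory AlgebraicGeometry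
open TopologicalSpace TensorProduct
open scoped MonObj
open Groth.Agent Groth.Agent.Grpsch.PicGrp Groth.Agent.Grpsch.Cube K524.Kun K524.AddC K524.ModAdd K524.Psi K524.FamVan
open K524.WPush K524.GVan K524.Restr K524.Restr2 K524.GgW
open Groth.Agent.VarietyB.TensCoh (HasBases)
open Groth.Agent.VarietyB.PullSec (sec)
open Groth.Agent.VarietyB.PullLoc (pullTop)
open Groth.Agent.Ega2.Tens (tmul)
open Groth.Agent.Fdesc.LocGen (pullSec)
open K800.MulMap (prods tmul_mem_prods mulSurj_iff gl)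
open BunMod.K596

namespace K524.MulSurj

theorem sec_id_top {X : Scheme.{u}} {M : X.Modules} (m : Γ(M, ⊤)) :
    ((Scheme.Modules.pullbackId X).hom.app M).app ⊤ (sec (𝟙 X) M (le_top : (⊤ : X.Opens) ≤ (𝟙 X) ⁻¹ᵁ ⊤) m) = m := by
  have h := unit_conjugateEquiv .id (Scheme.Modules.pullbackPushforwardAdjunction (𝟙 X))
    (Scheme.Modules.pullbackId X).hom M
  rw [Scheme.Modules.conjugateEquiv_pullbackId_hom] at h
  have h1 : sec (𝟙 X) M (le_top : (⊤ : X.Opens) ≤ (𝟙 X) ⁻¹ᵁ ⊤) m = pullSec (𝟙 X) m :=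
    Groth.Agent.Fdesc.LocGen.res_refl _ _
  rw [h1]
  exact congr(($(h).app ⊤) m).symm

theorem exists_iso_of_section {X Y : Scheme.{u}} {s : X ⟶ Y} {p : Y ⟶ X} (h : s ≫ p = 𝟙 X) (M : X.Modules) :
    ∃ a : (Scheme.Modules.pullback s).obj ((Scheme.Modules.pullback p).obj M) ≅ M, ∀ m : Γ(M, ⊤),
      a.hom.app ⊤ (sec s _ (le_top : (⊤ : X.Opens) ≤ s ⁻¹ᵁ ⊤)
        (sec p M (le_top : (⊤ : Y.Opens) ≤ p ⁻¹ᵁ ⊤) m)) = m := by
  refine ⟨(Scheme.Modules.pullbackComp s p).app M ≪≫ (Scheme.Modules.pullbackCongr h).app M ≪≫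
    (Scheme.Modules.pullbackId X).app M, fun m => ?_⟩
  have h1 := Fga.SecComp.sec_comp s p M (le_top : (⊤ : Y.Opens) ≤ p ⁻¹ᵁ ⊤) (le_top : (⊤ : X.Opens) ≤ s ⁻¹ᵁ ⊤)
    (le_top : (⊤ : X.Opens) ≤ (s ≫ p) ⁻¹ᵁ ⊤) m
  have h2 := Fga.SecComp.sec_congr h M (le_top : (⊤ : X.Opens) ≤ (s ≫ p) ⁻¹ᵁ ⊤)
    (le_top : (⊤ : X.Opens) ≤ (𝟙 X) ⁻¹ᵁ ⊤) m
  exact (congrArg (fun x => ((Scheme.Modules.pullbackId X).hom.app M).app ⊤
    (((Scheme.Modules.pullbackCongr h).hom.app M).app ⊤ x)) h1).trans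
    ((congrArg (fun x => ((Scheme.Modules.pullbackId X).hom.app M).app ⊤ x) h2).trans (sec_id_top m))

theorem sec_top_eq {X Y : Scheme.{u}} (f : X ⟶ Y) {M : Y.Modules} (m : Γ(M, ⊤)) :
    sec f M (le_top : (⊤ : X.Opens) ≤ f ⁻¹ᵁ ⊤) m = pullTop f m :=
  Groth.Agent.Fdesc.LocGen.res_refl _ _

variable {k : Type u} [Field k] {J : Over (Spec (CommRingCat.of k))} [GrpObj J]

theorem e0_mu : e0 J ≫ μ[J] = 𝟙 J := by
  have h1 : e0 J ≫ μ[J] = (1 : J ⟶ J) * 𝟙 J := rfl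
  rw [h1, one_mul]

theorem e0_snd : e0 J ≫ snd J J = 𝟙 J := by simp

/-- If every section of `e0^* G` lifts to `G` then the multiplication map of `E` is onto. -/
theorem mulSurj_of_restr [IsProper J.hom] {E : J.left.Modules} (hE : FlatMod.IsFinLocFree E) (hEc : Coh.IsCoh E)
    (h : ∀ t : Γ((Scheme.Modules.pullback (e0 J).left).obj (G J E), ⊤),
      ∃ w : Γ(G J E, ⊤), sec (e0 J).left (G J E) (le_top : (⊤ : J.left.Opens) ≤ (e0 J).left ⁻¹ᵁ ⊤) w = t) :
    K800.MulMap.MulSurj E E := by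
  have hB := VarietyB.TensCoh.HasBases.of_isFinLocFree hE
  obtain ⟨a, ha⟩ := exists_iso_of_section (s := (e0 J).left) (p := μ[J].left)
    (congrArg Over.Hom.left (e0_mu (J := J))) E
  obtain ⟨b, hb⟩ := exists_iso_of_section (s := (e0 J).left) (p := (snd J J).left)
    (congrArg Over.Hom.left (e0_snd (J := J))) E
  let Φ : (Scheme.Modules.pullback (e0 J).left).obj (G J E) ≅ CohB1.tensorMod E E :=
    CohqB.PullTwist471.pullTensorIsoLeft (e0 J).left (VarietyB.ProjForm.HasBases.pullback _ hB) _ ≪≫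
      Ega2.Tens.mapTIso a b
  have key : ∀ (m n : Γ(E, ⊤)), Φ.hom.app ⊤ (sec (e0 J).left (G J E) (le_top : (⊤ : J.left.Opens) ≤ (e0 J).left ⁻¹ᵁ ⊤)
      (tmul (pullTop μ[J].left m) (pullTop (snd J J).left n))) = tmul m n := by
    intro m n
    have h1 := Ega3B.PullTensor.delta_pullSec (e0 J).left (pb μ[J] E) (pb (snd J J) E) (U := ⊤)
      (pullTop μ[J].left m) (pullTop (snd J J).left n)
    have h2 : sec (e0 J).left (G J E) (le_top : (⊤ : J.left.Opens) ≤ (e0 J).left ⁻¹ᵁ ⊤)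
        (tmul (pullTop μ[J].left m) (pullTop (snd J J).left n)) =
        pullSec (e0 J).left (tmul (pullTop μ[J].left m) (pullTop (snd J J).left n)) :=
      Groth.Agent.Fdesc.LocGen.res_refl _ _
    have h3 : a.hom.app ⊤ (pullSec (e0 J).left (pullTop μ[J].left m)) = m := by
      have := ha m
      rwa [sec_top_eq, sec_top_eq] at this
    have h4 : b.hom.app ⊤ (pullSec (e0 J).left (pullTop (snd J J).left n)) = n := by
      have := hb n
      rwa [sec_top_eq, sec_top_eq] at this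
    have h5 := Ega2.Tens.mapT_tmul a.hom b.hom (U := ⊤) (pullSec (e0 J).left (pullTop μ[J].left m))
      (pullSec (e0 J).left (pullTop (snd J J).left n))
    rw [h3, h4] at h5
    refine Eq.trans ?_ h5
    have h6 : Φ.hom.app ⊤ (sec (e0 J).left (G J E) (le_top : (⊤ : J.left.Opens) ≤ (e0 J).left ⁻¹ᵁ ⊤)
        (tmul (pullTop μ[J].left m) (pullTop (snd J J).left n))) =
        (Ega2.Tens.mapT a.hom b.hom).app ⊤ ((Ega3B.PullTensor.delta (e0 J).left (pb μ[J] E) (pb (snd J J) E)).app ⊤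
          (sec (e0 J).left (G J E) (le_top : (⊤ : J.left.Opens) ≤ (e0 J).left ⁻¹ᵁ ⊤)
        (tmul (pullTop μ[J].left m) (pullTop (snd J J).left n)))) := rfl
    rw [h6]
    exact congrArg _ ((congrArg _ h2).trans h1)
  intro t
  obtain ⟨w, hw⟩ := h (Φ.inv.app ⊤ t)
  have h2 : Φ.hom.app ⊤ (sec (e0 J).left (G J E) (le_top : (⊤ : J.left.Opens) ≤ (e0 J).left ⁻¹ᵁ ⊤) w) = t := by
    rw [hw]
    exact Ega2.TensPow.app_symm_app Φ t
  rw [← h2]
  have h3 := KunProd.kunneth_field (isPullback_mu' (J := J)).flip hEc hB w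
  let ψ : Γ(G J E, ⊤) →+ Γ(CohB1.tensorMod E E, ⊤) := (gl Φ.hom).comp
    (sec (e0 J).left (G J E) (le_top : (⊤ : J.left.Opens) ≤ (e0 J).left ⁻¹ᵁ ⊤))
  change ψ w ∈ prods E E
  clear h2 hw
  induction h3 using AddSubgroup.closure_induction with
  | mem x hx =>
    obtain ⟨m, n, rfl⟩ := hx
    have h4 : ψ (Groth.Agent.VarietyB.TensLoc.tmul (pullTop μ[J].left m) (pullTop (snd J J).left n)) = tmul m n :=
      key m n
    rw [h4]
    exact tmul_mem_prods _ _
  | zero => rw [map_zero]; exact (prods E E).zero_mem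
  | add x y _ _ hx hy => rw [map_add]; exact (prods E E).add_mem hx hy
  | neg x _ hx => rw [map_neg]; exact (prods E E).neg_mem hx

/-- **F6.** The multiplication map `H⁰(E) ⊗ H⁰(E) → H⁰(E ⊗ E)` is surjective for `m ≥ 2 r + 1`. -/
theorem mulSurj_of_verD [IsAlgClosed k] [CharZero k] {L : J.left.Modules} {g : ℕ} (hJ : PPAV g J L) (hs : Sym J L)
    (hcrit : Criterion J) {r m v : ℕ} (hr : 1 ≤ r) (hm : 2 * r + 1 ≤ m) {E : J.left.Modules}
    (hE : VerD J L r m v E) : MulSurj E E := by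
  have i1 := hJ.comm
  have i2 := hJ.proper
  have i3 := hJ.gint
  have hL := hJ.inv
  have hCa : CohB1.IsAmple (CohB1.tensorPow L (2 * (r * m))) :=
    Divis.NormAmple.isAmple_tensorPow hJ.ample (Nat.mul_pos two_pos (Nat.mul_pos hr (by omega)))
  have hEc : Coh.IsCoh E := PerfA.CohSerre.isCoh_of_isFinLocFree hE.locFree
  have hWf := flf_W hJ hs hr hE
  refine mulSurj_iff.1 (mulSurj_of_restr hE.locFree hEc ?_)
  exact restr_surj (flf_G hE.locFree) (isQCoh_of_flf hWf) (gg_W hJ hs hcrit hr hm hE)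
    (fun f n hn => van_G hJ.dim hL hs hr hE (fun i hi => K511.AmpleVan.vanish J _ hCa i hi) f n hn)

end K524.MulSurj
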