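import Groth.Agent.SDiv.K474.FittLoc
import Groth.Agent.Sga67.QCohEpi
import Groth.Agent.PerfA.QCohSerre
import Groth.Agent.PerfA.QCohEpi
import Groth.Agent.Krr.H478.EpiIso
import Groth.Agent.Krr.H487.KerRank
import Groth.Agent.Dcoh.FTFP
import Groth.Agent.Sga67.CohBasic

/-!
# Cokernels of `K ⟶ G`, `K` of rank one and `G` of rank `r + 1` (helper524)

* `fitt_bot`: the Fitting ideals of index `< r` of the cokernel vanish;
* `rank_of_support`: the cokernel is locally free of rank `r` if `Fitt_r` has empty support;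
* `mono_of_rank`: then `K ⟶ G` is a monomorphism.
-/

set_option autoImplicit false
universe u

open CategoryTheory CategoryTheory.Limits AlgebraicGeometry Opposite TopologicalSpace

namespace K524.X1Coker

open Groth.Agent

section alg

variable {R : Type*} [CommRing R] {M : Type*} [AddCommGroup M] [Module R M]

/-- A determinant with two rows proportional to the same vector vanishes. -/
theorem det_eq_zero_of_rows {ι : Type*} [Fintype ι] [DecidableEq ι] (a : Matrix ι ι R) (f : ι → R) {i j : ι}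
    (hij : i ≠ j) {c d : R} (hi : a i = c • f) (hj : a j = d • f) : a.det = 0 := by
  have h1 : a = (a.updateRow i (c • f)) := by
    rw [← hi, Matrix.updateRow_eq_self]
  rw [h1, Matrix.det_updateRow_smul]
  have h2 : a.updateRow i f = ((a.updateRow i f).updateRow j (d • f)) := by
    have h3 : (a.updateRow i f) j = d • f := by
      rw [Matrix.updateRow_ne hij.symm, hj]
    rw [← h3, Matrix.updateRow_eq_self]
  rw [h2, Matrix.det_updateRow_smul]
  have h4 : ((a.updateRow i f).updateRow j f).det = 0 := by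
    refine Matrix.det_zero_of_row_eq hij ?_
    rw [Matrix.updateRow_self, Matrix.updateRow_ne hij, Matrix.updateRow_self]
  rw [h4, mul_zero, mul_zero]

theorem fit_bot {n k : ℕ} (x : Fin n → M) (f : Fin n → R)
    (hrel : ∀ a : Fin n → R, ∑ j, a j • x j = 0 → ∃ c : R, a = c • f) (hk : k + 1 < n) :
    K360.FittBasic.fit (R := R) x k = ⊥ := by
  rw [eq_bot_iff]
  refine Ideal.span_le.mpr ?_
  rintro _ ⟨a, t, ht, ha, rfl⟩
  have h1 : 1 < (Finset.univ \ t).card := by
    rw [Finset.card_sdiff_of_subset (Finset.subset_univ _), Finset.card_univ, Fintype.card_fin]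
    omega
  obtain ⟨i, hi, j, hj, hij⟩ := Finset.one_lt_card.1 h1
  obtain ⟨c, hc⟩ := hrel (a i) (ha i (Finset.mem_sdiff.1 hi).2)
  obtain ⟨d, hd⟩ := hrel (a j) (ha j (Finset.mem_sdiff.1 hj).2)
  rw [det_eq_zero_of_rows a f hij hc hd]
  exact Ideal.zero_mem _

theorem ideal_bot {K' G' C' : Type*} [AddCommGroup K'] [Module R K'] [AddCommGroup G'] [Module R G'] [AddCommGroup C']
    [Module R C'] (u : K' →ₗ[R] G') (p : G' →ₗ[R] C') (hp : Function.Surjective p) (hex : Function.Exact u p)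
    {r k : ℕ} (b : Module.Basis (Fin (r + 1)) R G') (κ : Module.Basis (Fin 1) R K') (hk : k < r) :
    Fitt.ideal R C' k = ⊥ := by
  have hspan : Submodule.span R (Set.range (p ∘ b)) = ⊤ := by
    rw [Set.range_comp, ← Submodule.map_span, b.span_eq, Submodule.map_top, LinearMap.range_eq_top.2 hp]
  rw [K360.FittBasic.ideal_eq_fit (p ∘ b) hspan k]
  refine fit_bot (p ∘ b) (b.repr (u (κ 0))) (fun a ha => ?_) (by omega)
  have h1 : p (∑ j, a j • b j) = 0 := by
    rw [map_sum, ← ha]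
    exact Finset.sum_congr rfl fun j _ => map_smul _ _ _
  obtain ⟨t, ht⟩ := (hex _).1 h1
  refine ⟨κ.repr t 0, ?_⟩
  have h2 : t = κ.repr t 0 • κ 0 := by
    conv_lhs => rw [← κ.sum_repr t]
    rw [Fin.sum_univ_one]
  have h3 : ⇑(b.repr (∑ j, a j • b j)) = a := by
    funext i
    rw [b.repr_sum_self]
  rw [← h3, ← ht]
  conv_lhs => rw [h2, map_smul, map_smul]
  rfl

end alg

variable {Y : Scheme.{u}} {K G : Y.Modules} {r : ℕ}

open Groth.Agent.CohqB.FiniteType2 Groth.Agent.Ega2.BasSec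

theorem exact_affine (u : K ⟶ G) (hqK : Coh.IsQCoh K) (hqG : Coh.IsQCoh G) {V : Y.Opens} (hV : IsAffineOpen V) :
    Function.Surjective (appLinear (cokernel.π u) V) ∧
      Function.Exact (appLinear u V) (appLinear (cokernel.π u) V) := by
  have hqC : Coh.IsQCoh (cokernel u) := PerfA.QCohSerre.isQCoh_cokernel u hqK hqG
  have hqI : Coh.IsQCoh (kernel (cokernel.π u)) := PerfA.QCohSerre.isQCoh_kernel _ hqG hqC
  let p : G ⟶ cokernel u := cokernel.π u
  refine ⟨Groth.Agent.Sga67.QCohEpi.app_surjective p hqG hqC hV, fun t => ⟨fun h => ?_, ?_⟩⟩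
  · let S : ShortComplex Y.Modules := ShortComplex.mk (kernel.ι p) p (kernel.condition p)
    have hS : S.Exact := ShortComplex.exact_kernel p
    have : Mono S.f := inferInstanceAs (Mono (kernel.ι p))
    obtain ⟨t', rfl⟩ := (sections_exact S hS V t).1 h
    let q : K ⟶ kernel p := kernel.lift p u (cokernel.condition u)
    have hq : Epi q := (ShortComplex.exact_cokernel u).epi_kernelLift
    obtain ⟨s, rfl⟩ := Groth.Agent.Sga67.QCohEpi.app_surjective q hqK hqI hV t'
    refine ⟨s, ?_⟩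
    have h2 : q ≫ kernel.ι p = u := kernel.lift_ι _ _ _
    conv_lhs => rw [← h2]
    rfl
  · rintro ⟨s, rfl⟩
    have h2 : u ≫ p = 0 := cokernel.condition u
    change (u ≫ p).app V s = 0
    rw [h2]
    rfl

theorem fitt_bot (hK : FlatMod.IsFinLocFreeOfRank 1 K) (hG : FlatMod.IsFinLocFreeOfRank (r + 1) G) (u : K ⟶ G)
    (hqK : Coh.IsQCoh K) (hqG : Coh.IsQCoh G) (hft : CohB1.IsFT (cokernel u)) {k : ℕ} (hk : k < r) :
    Fitt.sheafIdeal (cokernel u) k = ⊥ := by
  have hqC : Coh.IsQCoh (cokernel u) := PerfA.QCohSerre.isQCoh_cokernel u hqK hqG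
  refine Divis.IdealComap.ext_of_forall_mem fun x => ?_
  obtain ⟨U, hU, b, hxU, hb⟩ := Groth.Agent.SDiv.K474.FittLoc.exists_affine_isBas G hG x
  obtain ⟨U', hU', κ, hxU', hκ⟩ := Groth.Agent.SDiv.K474.FittLoc.exists_affine_isBas K hK x
  obtain ⟨V, hV, hxV, hVU⟩ := exists_isAffineOpen_mem_and_subset (x := x) (U := U ⊓ U') ⟨hxU, hxU'⟩
  have hVU1 : V ≤ U := fun y hy => (hVU hy).1
  have hVU2 : V ≤ U' := fun y hy => (hVU hy).2
  obtain ⟨b', -⟩ := (comb_bijective_iff _).1 (hb.res hVU1).bijective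
  obtain ⟨κ', -⟩ := (comb_bijective_iff _).1 (hκ.res hVU2).bijective
  refine ⟨⟨V, hV⟩, hxV, ?_⟩
  rw [Groth.Agent.SDiv.K474.FittSheaf.sheafIdeal_ideal (cokernel u) hqC hft]
  obtain ⟨h1, h2⟩ := exact_affine u hqK hqG hV
  rw [ideal_bot (appLinear u V) (appLinear (cokernel.π u) V) h1 h2 b' κ' hk]
  rfl

theorem finLocFree_of_rank {n : ℕ} {M : Y.Modules} (h : FlatMod.IsFinLocFreeOfRank n M) : FlatMod.IsFinLocFree M :=
  fun x => by
    obtain ⟨U, hU, e⟩ := h x
    exact ⟨U, n, hU, e⟩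

theorem qcoh_of_rank {n : ℕ} {M : Y.Modules} (h : FlatMod.IsFinLocFreeOfRank n M) : Coh.IsQCoh M :=
  Groth.Agent.PerfA.QCohEpi.isQCoh_of_isFinLocFree (finLocFree_of_rank h)

theorem isFT_cokernel {n : ℕ} (hG : FlatMod.IsFinLocFreeOfRank n G) (u : K ⟶ G) : CohB1.IsFT (cokernel u) :=
  Groth.Agent.Dcoh.FTFP.isFT_of_epi_finLocFree (finLocFree_of_rank hG) (cokernel.π u)

theorem rank_of_support (hK : FlatMod.IsFinLocFreeOfRank 1 K) (hG : FlatMod.IsFinLocFreeOfRank (r + 1) G) (u : K ⟶ G)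
    (h : ∀ x, x ∉ (Fitt.sheafIdeal (cokernel u) r).support) : FlatMod.IsFinLocFreeOfRank r (cokernel u) := by
  have hqK : Coh.IsQCoh K := qcoh_of_rank hK
  have hqG : Coh.IsQCoh G := qcoh_of_rank hG
  have hft : CohB1.IsFT (cokernel u) := isFT_cokernel hG u
  exact Groth.Agent.SDiv.K474.FittLoc.isFinLocFreeOfRank_of_fitting _
    (PerfA.QCohSerre.isQCoh_cokernel u hqK hqG) hft r (fun k hk => fitt_bot hK hG u hqK hqG hft hk) h

theorem mono_of_rank (hK : FlatMod.IsFinLocFreeOfRank 1 K) (hG : FlatMod.IsFinLocFreeOfRank (r + 1) G) (u : K ⟶ G)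
    (h : FlatMod.IsFinLocFreeOfRank r (cokernel u)) : Mono u := by
  let p : G ⟶ cokernel u := cokernel.π u
  let q : K ⟶ kernel p := kernel.lift p u (cokernel.condition u)
  have hq : Epi q := (ShortComplex.exact_cokernel u).epi_kernelLift
  have hker : FlatMod.IsFinLocFreeOfRank 1 (kernel p) := by
    have hG' : FlatMod.IsFinLocFreeOfRank (1 + r) G := by rw [add_comm]; exact hG
    exact Groth.Agent.Krr.H487.KerRank.isFinLocFreeOfRank_kernel p hG' h
  have h1 : IsIso q := Groth.Agent.Krr.H478.EpiIso.isIso_of_epi q hK hker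
  have h2 : q ≫ kernel.ι p = u := kernel.lift_ι _ _ _
  rw [← h2]
  exact mono_comp _ _

end K524.X1Coker
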