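import Groth.Agent.BunMod.K524.X1Gen
import Groth.Agent.BunMod.K524.X1Coker
import Groth.Agent.ArSurf.K482.DetSes
import Groth.Agent.ArSurf.K482.CanonTool
import Groth.Agent.VBCurve.K703.GlobGen
import Groth.Agent.VBCurve.K703.TwSS
import Groth.Agent.VBCurve.K705.EvFib2

/-!
# Semistable bundles with a section on a curve as cokernels of one space of maps `K ⟶ G` (helper524)

`exists_KG`: `X` a curve, `L`, `N` invertible, `1 ≤ r`: there are `K` invertible and `G` of rank `r + 1` such that a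
semistable bundle `E` of rank `r`, determinant `L` and degree zero satisfies `H⁰(E ⊗ N) ≠ 0` iff it is the cokernel of a
homomorphism `K ⟶ G`.
-/

set_option autoImplicit false
universe u

open CategoryTheory CategoryTheory.Limits AlgebraicGeometry TopologicalSpace Opposite

namespace K524.X1Curve

open Groth.Agent Groth.Agent.VarietyA.DegRank K707.Base K707.Deg K707.Slope K707.Semi K707.TensL K703 K703.TwSS
  K707.IndepCoker

section gen

variable {X : Scheme.{u}}

/-- Sections of `E ⊗ N` and homomorphisms `N' ⟶ E`. -/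
theorem sec_iff {N N' : X.Modules} (hN : PicF.IsInvertible N) (e : CohB1.tensorMod N' N ≅ Coh.structureModule X)
    (E : X.Modules) : (∃ f : Coh.structureModule X ⟶ CohB1.tensorMod E N, f ≠ 0) ↔ ∃ g : N' ⟶ E, g ≠ 0 := by
  have := isEquivalence hN
  constructor
  · rintro ⟨f, hf⟩
    obtain ⟨g, hg⟩ := (T N).map_surjective (X := N') (Y := E) (e.hom ≫ f)
    refine ⟨g, fun h => hf ?_⟩
    rw [h, Functor.map_zero] at hg
    exact (cancel_epi e.hom).1 (hg.symm.trans comp_zero.symm)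
  · rintro ⟨g, hg⟩
    refine ⟨e.inv ≫ (T N).map g, fun h => hg ?_⟩
    apply (T N).map_injective
    rw [Functor.map_zero]
    exact (cancel_epi e.inv).1 (h.trans comp_zero.symm)

/-- The third term of a short exact sequence is the cokernel. -/
theorem nonempty_cokernel_iso {K G E : X.Modules} {i : K ⟶ G} {p : G ⟶ E} {w : i ≫ p = 0}
    (hS : (ShortComplex.mk i p w).ShortExact) : Nonempty (cokernel i ≅ E) := by
  have : Epi (ShortComplex.mk i p w).g := hS.epi_g
  exact ⟨(cokernelIsCokernel i).coconePointUniqueUpToIso hS.exact.gIsCokernel⟩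

theorem biprod_shortExact (A B : X.Modules) :
    (ShortComplex.mk (biprod.inl : A ⟶ A ⊞ B) biprod.snd biprod.inl_snd).ShortExact :=
  (ShortComplex.Splitting.ofHasBinaryBiproduct A B).shortExact

end gen

variable {k : Type u} [Field k] {X : Scheme.{u}} [X.Over (Spec (CommRingCat.of k))] [IsIntegral X]
  [IsProper (X ↘ (Spec (CommRingCat.of k)))]

/-- The numbers of `G = (B ⊞ O^r) ⊗ P'`. -/
theorem dg_G (C : Crv k X) {B P' : X.Modules} (hB : PicF.IsInvertible B) (hP' : PicF.IsInvertible P') (r : ℕ) :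
    FlatMod.IsFinLocFreeOfRank (1 + r) ((T P').obj (B ⊞ FlatMod.freeMod X r)) ∧
      dg k ((T P').obj (B ⊞ FlatMod.freeMod X r)) = dg k B + (1 + r) * dg k P' := by
  have hfree : FlatMod.IsFinLocFreeOfRank r (FlatMod.freeMod X r) := fun _ =>
    ⟨⊤, trivial, ⟨(Dcoh.FinLocFree.restrictFree _ r).symm⟩⟩
  have hS := biprod_shortExact B (FlatMod.freeMod X r)
  have h1 : FlatMod.IsFinLocFreeOfRank (1 + r) (B ⊞ FlatMod.freeMod X r) :=
    Krr.H495.Rank.rank_shortExact hS (rank_one_iff.2 hB) hfree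
  have h2 := dg_add k _ hS (Basic.isCoh_of_inv hB) (isCoh_of_rank h1) (isCoh_of_rank hfree)
  replace h2 : dg k (B ⊞ FlatMod.freeMod X r) = dg k B + dg k (FlatMod.freeMod X r) := h2
  rw [K705.EvFib2.dg_free C, add_zero] at h2
  refine ⟨rank_twist C hP' h1, ?_⟩
  rw [dg_twist C hP' (isCoh_of_rank h1), h2, rk_of_rank h1]
  push_cast
  ring

variable [IsAlgClosed k]

/-- Bundles with a section come from maps `K ⟶ G`. -/
theorem exists_map (C : Crv k X) {r : ℕ} {L N' P P' K D E : X.Modules} (hL : PicF.IsInvertible L)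
    (hP : PicF.IsInvertible P) (eP : CohB1.tensorMod P P' ≅ Coh.structureModule X) (hP' : PicF.IsInvertible P')
    (hN' : PicF.IsInvertible N')
    (hgB : Curv2.IsGloballyGenerated ((T P).obj N')) (hgE : Curv2.IsGloballyGenerated ((T P).obj E))
    (hE : FlatMod.IsFinLocFreeOfRank r E) (hEL : ExtPow.IsExtPow r E L)
    (hD : ExtPow.IsExtPow (1 + r) ((T P').obj ((T P).obj N' ⊞ FlatMod.freeMod X r)) D)
    (hKL : Nonempty (CohB1.tensorMod K L ≅ D)) {g : N' ⟶ E} (hg : g ≠ 0) :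
    ∃ u : K ⟶ (T P').obj ((T P).obj N' ⊞ FlatMod.freeMod X r), Nonempty (cokernel u ≅ E) := by
  have hinf : Infinite k := IsAlgClosed.instInfinite
  have hN : IsNoetherian X := K707.Deg.isNoetherian k
  have hEP := isEquivalence hP
  have hEP' := isEquivalence hP'
  have hs : (T P).map g ≠ 0 := fun h => hg ((T P).map_injective (by rw [h, Functor.map_zero]))
  have hr := rank_twist C hP hE
  obtain ⟨w, hw⟩ := X1Gen.exists_epi (k := k)
    ((X ↘ Spec (CommRingCat.of k)).appTop.hom.comp (Scheme.ΓSpecIso (CommRingCat.of k)).inv.hom) C.dim.le hr hgE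
    (isCoh_of_rank hr).1 (isTorsionFree_of_isFinLocFree (isFinLocFree_of_rank hr)) hgB hs
  let φ : (T P').obj ((T P).obj N' ⊞ FlatMod.freeMod X r) ⟶ E :=
    (T P').map (biprod.desc ((T P).map g) (homOfFam w)) ≫ (twIso eP E).hom
  have hφ : Epi φ := epi_comp _ _
  have hS := kernel_shortExact φ
  obtain ⟨hG, -⟩ := dg_G (k := k) C (inv_twist C hP hN') hP' r
  have hker : FlatMod.IsFinLocFreeOfRank 1 (kernel φ) := Krr.H487.KerRank.isFinLocFreeOfRank_kernel φ hG hE
  obtain ⟨e⟩ := K482.DetSes.det_ses hS hker hE (Sga67.TensorOps.isExtPow_one _) hD hEL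
  obtain ⟨α⟩ : Nonempty (K ≅ kernel φ) :=
    K482.TensCalc.cancel_right hL (K482.TensCalc.trans hKL (K482.TensCalc.symm ⟨e⟩))
  have w' : (α.hom ≫ kernel.ι φ) ≫ φ = 0 := by rw [Category.assoc, kernel.condition, comp_zero]
  refine ⟨α.hom ≫ kernel.ι φ, nonempty_cokernel_iso (p := φ) (w := w') ?_⟩
  refine ShortComplex.shortExact_of_iso (ShortComplex.isoMk (S₁ := ShortComplex.mk (kernel.ι φ) φ (kernel.condition φ))
    (S₂ := ShortComplex.mk (α.hom ≫ kernel.ι φ) φ w') α.symm (Iso.refl _) (Iso.refl _) ?_ ?_) hS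
  · simp
  · simp

omit [IsAlgClosed k] in
/-- Cokernels of maps `K ⟶ G` have a section. -/
theorem exists_sec (C : Crv k X) {r : ℕ} (hr : 1 ≤ r) {N' P P' K E : X.Modules}
    (hP : PicF.IsInvertible P) (eP : CohB1.tensorMod P P' ≅ Coh.structureModule X) (hP' : PicF.IsInvertible P')
    (hdP : dg k P' = - dg k P) (hpos : 0 < dg k P) (hN' : PicF.IsInvertible N') (hK : PicF.IsInvertible K)
    (hE : FlatMod.IsFinLocFreeOfRank r E) (hE0 : dg k E = 0)
    (u : K ⟶ (T P').obj ((T P).obj N' ⊞ FlatMod.freeMod X r)) (ε : cokernel u ≅ E) : ∃ g : N' ⟶ E, g ≠ 0 := by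
  obtain ⟨hG, hdG⟩ := dg_G (k := k) C (inv_twist C hP hN') hP' r
  let B := (T P).obj N'
  let j : (T P').obj B ⟶ (T P').obj (B ⊞ FlatMod.freeMod X r) := (T P').map biprod.inl
  let ρ : (T P').obj (B ⊞ FlatMod.freeMod X r) ⟶ (T P').obj B := (T P').map biprod.fst
  have hjρ : j ≫ ρ = 𝟙 _ := by
    change (T P').map _ ≫ (T P').map _ = _
    rw [← Functor.map_comp, biprod.inl_fst, CategoryTheory.Functor.map_id]
  refine ⟨(twIso eP N').inv ≫ j ≫ cokernel.π u ≫ ε.hom, fun h => ?_⟩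
  have h0 : j ≫ cokernel.π u = 0 := by
    rw [← cancel_epi (twIso eP N').inv, ← cancel_mono ε.hom]
    simpa using h
  have hcok : FlatMod.IsFinLocFreeOfRank r (cokernel u) := rank_iso ε.symm hE
  have hu : Mono u := X1Coker.mono_of_rank (rank_one_iff.2 hK) (by rw [add_comm]; exact hG) u hcok
  have hS := cokernel_shortExact u
  let l : (T P').obj B ⟶ K := hS.exact.lift j h0
  have hl : l ≫ u = j := hS.exact.lift_f j h0
  have hlm : Mono l := by
    have h1 : l ≫ (u ≫ ρ) = 𝟙 _ := by rw [← Category.assoc, hl, hjρ]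
    have h2 : Mono (l ≫ (u ≫ ρ)) := by rw [h1]; infer_instance
    exact mono_of_mono l (u ≫ ρ)
  have hB' := inv_twist C hP' (inv_twist C hP hN')
  have h1 := dg_le_of_mono C l (Basic.isCoh_of_inv hB') (Basic.isCoh_of_inv hK)
    (by rw [Stab.rk_of_inv hB', Stab.rk_of_inv hK])
  have h2 := dg_add k _ hS (Basic.isCoh_of_inv hK) (isCoh_of_rank hG) (isCoh_of_rank hcok)
  replace h2 : dg k ((T P').obj (B ⊞ FlatMod.freeMod X r)) = dg k K + dg k (cokernel u) := h2
  have h3 : dg k (cokernel u) = 0 := by rw [dg_iso k ε, hE0]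
  have h4 : dg k ((T P').obj B) = dg k B + dg k P' := by
    rw [dg_twist C hP' (Basic.isCoh_of_inv (inv_twist C hP hN')), Stab.rk_of_inv (inv_twist C hP hN'),
      Nat.cast_one, one_mul]
  have hr' : (1 : ℤ) ≤ r := by exact_mod_cast hr
  rw [h4] at h1
  rw [h3, hdG] at h2
  change dg k B + (1 + r) * dg k P' = dg k K + 0 at h2
  nlinarith

/-- **The space of maps `K ⟶ G`.** -/
theorem exists_KG [Smooth (X ↘ (Spec (CommRingCat.of k)))] (hdim : topologicalKrullDim X = 1) {r : ℕ} (hr : 1 ≤ r)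
    {L N : X.Modules} (hL : PicF.IsInvertible L) (hN : PicF.IsInvertible N) :
    ∃ K G D : X.Modules, PicF.IsInvertible K ∧ FlatMod.IsFinLocFreeOfRank (r + 1) G ∧
      ExtPow.IsExtPow (1 + r) G D ∧ Nonempty (CohB1.tensorMod K L ≅ D) ∧
      ∀ E : X.Modules, FlatMod.IsFinLocFreeOfRank r E → ExtPow.IsExtPow r E L → SS k E → dg k E = 0 →
        ((∃ f : Coh.structureModule X ⟶ CohB1.tensorMod E N, f ≠ 0) ↔ ∃ u : K ⟶ G, Nonempty (cokernel u ≅ E)) := by
  have C : Crv k X := Crv.of_smooth hdim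
  obtain ⟨Dz⟩ := K703.Duality.nonempty_dualizing k X hdim
  obtain ⟨N', hN', -, ⟨eN⟩, hdN⟩ := _root_.K708.PtTwist.exists_inv C hN
  let d := dg k Dz.w + 1
  obtain ⟨P, hP, hdP⟩ := _root_.K708.PtTwist.exists_inv_ge C (max 1 (max (d + 1) (d + 1 + dg k N)))
  obtain ⟨P', hP', ⟨eP⟩, -, hdP'⟩ := _root_.K708.PtTwist.exists_inv C hP
  have hpos : 0 < dg k P := lt_of_lt_of_le zero_lt_one ((le_max_left _ _).trans hdP)
  have hP1 : d + 1 ≤ dg k P := ((le_max_left _ _).trans (le_max_right _ _)).trans hdP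
  have hP2 : d + 1 + dg k N ≤ dg k P := ((le_max_right _ _).trans (le_max_right _ _)).trans hdP
  have hB := inv_twist C hP hN'
  obtain ⟨hG, hdG⟩ := dg_G (k := k) C hB hP' r
  obtain ⟨D, hD⟩ := K482.CanonTool.exists_isExtPow (1 + r) (isFinLocFree_of_rank hG)
  have hDi : PicF.IsInvertible D := K482.CanonTool.isInvertible_extPow hG hD
  obtain ⟨L', hL', -, ⟨eL⟩, -⟩ := _root_.K708.PtTwist.exists_inv C hL
  have hK : PicF.IsInvertible (CohB1.tensorMod D L') := inv_twist C hL' hDi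
  refine ⟨CohB1.tensorMod D L', _, D, hK, by rw [add_comm]; exact hG, hD,
    ⟨Ega2.Tens.assoc D L' L ≪≫ Ega2.Tens.mapTIso (Iso.refl _) eL ≪≫ Ega2.Tens.runit D⟩, fun E hE hEL hss hE0 => ?_⟩
  rw [sec_iff hN eN]
  constructor
  · rintro ⟨g, hg⟩
    refine exists_map C hL hP eP hP' hN' ?_ ?_ hE hEL hD
      ⟨Ega2.Tens.assoc D L' L ≪≫ Ega2.Tens.mapTIso (Iso.refl _) eL ≪≫ Ega2.Tens.runit D⟩ hg
    · refine K703.GlobGen.isGloballyGenerated_of C Dz (Basic.isCoh_of_inv hB) fun M hM hd f => ?_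
      by_contra hf
      have h1 := Stab.slope_le_of_hom C (Stab.ss_of_inv C hB) (Stab.vb_of_inv hB) hM f hf
      rw [Stab.rk_of_inv hB, dg_twist C hP (Basic.isCoh_of_inv hN'), Stab.rk_of_inv hN'] at h1
      push_cast at h1
      change dg k M ≤ d at hd
      linarith
    · have hcE := isCoh_of_rank hE
      have hr0 : (0 : ℤ) < r := by exact_mod_cast hr
      refine K703.GlobGen.isGloballyGenerated_of C Dz (isCoh_of_rank (rank_twist C hP hE)) fun M hM hd f => ?_
      by_contra hf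
      have h1 := Stab.slope_le_of_hom C (ss_twist C hP hcE hss) (vb_twist C hP (isFinLocFree_of_rank hE)) hM f hf
      rw [rk_twist hP hcE, rk_of_rank hE, dg_twist C hP hcE, rk_of_rank hE, hE0] at h1
      change dg k M ≤ d at hd
      nlinarith
  · rintro ⟨u, ⟨ε⟩⟩
    exact exists_sec C hr hP eP hP' hdP' hpos hN' hK hE hE0 u ε

end K524.X1Curve
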