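import Groth.Agent.BunMod.K524.X1Open
import Groth.Agent.BunMod.K524.X1Curve
import Groth.Agent.CurvesB.HZero
import Groth.Agent.VBCurve.K703.HomFin

/-!
# Families over the point and bundles on the curve (helper524)

* `exists_gens`: `Hom(K, G)` is spanned by finitely many maps;
* `subsingleton_iff`: `H⁰(M) = 0` iff all `O ⟶ M` vanish; `nz_iff`: transfer along isomorphisms of schemes;
* `exists_bundle`: a family over the point is a semistable bundle on the curve; `hh_iff`: its sections.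
-/

set_option autoImplicit false
universe u

open CategoryTheory CategoryTheory.Limits AlgebraicGeometry

namespace K524.X1Pt

open K140.BM K311.KE Groth.Agent Groth.Agent.LoccohB.HHmap Groth.Agent.LoccohB.SectLin303 K524.X1Fam K824.Join
  K562.OkPull K707.Deg K707.Semi

section gen

variable {Y X : Scheme.{u}}

open Groth.Agent.Fdesc.LocGen in
theorem subsingleton_iff (M : Y.Modules) :
    Subsingleton (Coh.HH Y M 0) ↔ ∀ f : Coh.structureModule Y ⟶ M, f = 0 := by
  constructor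
  · intro h f
    have h1 : Subsingleton Γ(M, ⊤) := (CurvesB.HZero.equivAdd M).symm.toEquiv.subsingleton
    rw [← homOf_sec f, ← homOf_sec (0 : Coh.structureModule Y ⟶ M)]
    congr 1
    exact Subsingleton.elim _ _
  · intro h
    have h1 : Subsingleton Γ(M, ⊤) := ⟨fun a b => by
      have h2 : homOf a = homOf b := (h _).trans (h _).symm
      have h3 : sec (homOf a) (⊤ : Y.Opens) = sec (homOf b) (⊤ : Y.Opens) := by rw [h2]
      rw [sec_homOf, sec_homOf] at h3
      have h4 : ∀ m : Γ(M, ⊤), res M (le_top : (⊤ : Y.Opens) ≤ ⊤) m = m := fun m => by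
        have : (homOfLE (le_top : (⊤ : Y.Opens) ≤ ⊤)).op = 𝟙 _ := rfl
        change (M.presheaf.map (homOfLE (le_top : (⊤ : Y.Opens) ≤ ⊤)).op).hom m = m
        rw [this, M.presheaf.map_id]
        rfl
      rwa [h4, h4] at h3⟩
    exact (CurvesB.HZero.equivAdd M).toEquiv.subsingleton

theorem faithful (p : Y ⟶ X) [IsIso p] : (Scheme.Modules.pullback p).Faithful :=
  Functor.Faithful.of_comp_iso (G := Scheme.Modules.pullback (inv p)) (H := 𝟭 _)
    (Scheme.Modules.pullbackComp _ _ ≪≫ Scheme.Modules.pullbackCongr (IsIso.inv_hom_id p) ≪≫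
      Scheme.Modules.pullbackId _)

theorem nz_iff (p : Y ⟶ X) [IsIso p] (M : X.Modules) :
    (∃ f : Coh.structureModule Y ⟶ (Scheme.Modules.pullback p).obj M, f ≠ 0) ↔
      ∃ f : Coh.structureModule X ⟶ M, f ≠ 0 := by
  constructor
  · rintro ⟨f, hf⟩
    have h1 := faithful (inv p)
    obtain ⟨e⟩ := Ega3B.PullTensor.nonempty_pullUnitIso (inv p)
    let j : (Scheme.Modules.pullback (inv p)).obj ((Scheme.Modules.pullback p).obj M) ≅ M :=
      (Scheme.Modules.pullbackComp _ _).app M ≪≫ (Scheme.Modules.pullbackCongr (IsIso.inv_hom_id p)).app M ≪≫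
        (Scheme.Modules.pullbackId _).app M
    refine ⟨e.inv ≫ (Scheme.Modules.pullback (inv p)).map f ≫ j.hom, fun h => hf ?_⟩
    apply (Scheme.Modules.pullback (inv p)).map_injective
    rw [Functor.map_zero, ← cancel_epi e.inv, ← cancel_mono j.hom]
    simpa using h
  · rintro ⟨f, hf⟩
    have h1 := faithful p
    obtain ⟨e⟩ := Ega3B.PullTensor.nonempty_pullUnitIso p
    refine ⟨e.inv ≫ (Scheme.Modules.pullback p).map f, fun h => hf ?_⟩
    apply (Scheme.Modules.pullback p).map_injective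
    rw [Functor.map_zero, ← cancel_epi e.inv]
    simpa using h

end gen

variable {k : Type u} [Field k] {X : Scheme.{u}} [X.Over (Spec (CommRingCat.of k))]

theorem smul_eq' {K G : X.Modules} (a : k) (f : K ⟶ G) : a • f = ((st k X).appTop (kOf k a)) • f := rfl

/-- `Hom(K, G)` is spanned by finitely many maps. -/
theorem exists_gens [IsProper (X ↘ Spec (CommRingCat.of k))] {K G : X.Modules} (hK : Coh.IsCoh K) (hG : Coh.IsCoh G) :
    ∃ (n : ℕ) (e : Fin n → (K ⟶ G)), ∀ u : K ⟶ G, ∃ a : Fin n → k, u = ua e a := by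
  have h1 := K703.HomFin.finite_hom k K G hK hG
  obtain ⟨n, e, he⟩ := Module.Finite.exists_fin (R := k) (M := (K ⟶ G))
  refine ⟨n, e, fun u => ?_⟩
  have hu : u ∈ Submodule.span k (Set.range e) := he ▸ Submodule.mem_top
  obtain ⟨a, ha⟩ := (Submodule.mem_span_range_iff_exists_fun k).1 hu
  exact ⟨a, ha.symm⟩

open Groth.Agent.CohqB.PullTwist471 in
/-- Sections of `F ⊗ N` over the point. -/
theorem hh_iff {N E : X.Modules} (hN : PicF.IsInvertible N)
    {F : (PicF.XT (st k X) (Over.mk (𝟙 (B0 k)))).Modules} (i : cst k (Over.mk (𝟙 (B0 k))) E ≅ F) :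
    ¬ Subsingleton (Coh.HH (PicF.XT (st k X) (Over.mk (𝟙 (B0 k))))
        (CohB1.tensorMod F (cst k (Over.mk (𝟙 (B0 k))) N)) 0) ↔
      ∃ f : Coh.structureModule X ⟶ CohB1.tensorMod E N, f ≠ 0 := by
  have h1 : IsIso (pullback.fst (st k X) (Over.mk (𝟙 (B0 k))).hom) :=
    inferInstanceAs (IsIso (pullback.fst (st k X) (𝟙 (B0 k))))
  rw [← nz_iff (pullback.fst (st k X) (Over.mk (𝟙 (B0 k))).hom), subsingleton_iff]
  push_neg
  let j : (Scheme.Modules.pullback (pullback.fst (st k X) (Over.mk (𝟙 (B0 k))).hom)).obj (CohB1.tensorMod E N) ≅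
      CohB1.tensorMod F (cst k (Over.mk (𝟙 (B0 k))) N) :=
    pullTensorIsoRight _ (hasBases_of_isInvertible hN) E ≪≫ Ega2.Tens.mapTIso i (Iso.refl _)
  constructor
  · rintro ⟨f, hf⟩
    refine ⟨f ≫ j.inv, fun h => hf ?_⟩
    rw [← cancel_mono j.inv, h, zero_comp]
  · rintro ⟨f, hf⟩
    refine ⟨f ≫ j.hom, fun h => hf ?_⟩
    rw [← cancel_mono j.hom, h, zero_comp]

variable [IsProper (X ↘ Spec (CommRingCat.of k))] [IsIntegral X]

/-- A family over the point is a semistable bundle on the curve. -/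
theorem exists_bundle [IsAlgClosed k] [Smooth (X ↘ Spec (CommRingCat.of k))] (hdim : topologicalKrullDim X = 1)
    {r : ℕ} {L : X.Modules} (hL : Curv2.deg k X L 1 = 0) {F : (PicF.XT (st k X) (Over.mk (𝟙 (B0 k)))).Modules}
    (hF : BunMod.ussDetOK (st k X) r L (Over.mk (𝟙 (B0 k))) F) :
    ∃ E : X.Modules, Nonempty (cst k (Over.mk (𝟙 (B0 k))) E ≅ F) ∧ FlatMod.IsFinLocFreeOfRank r E ∧
      ExtPow.IsExtPow r E L ∧ SS k E ∧ dg k E = 0 := by
  let : (PicF.XT (st k X) (Over.mk (𝟙 (B0 k)))).Over (Spec (CommRingCat.of k)) :=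
    ⟨PicF.XTproj (st k X) (Over.mk (𝟙 (B0 k)))⟩
  obtain ⟨E, ⟨e⟩⟩ := exists_model F
  obtain ⟨h1, h2⟩ := exists_extPow ⟨e⟩ hF
  have C : K707.Base.Crv k X := K707.Base.Crv.of_smooth hdim
  refine ⟨E, ⟨e⟩, h1, h2, (ss_iff C h1).2 ?_, ?_⟩
  · have h3 : Spec.map (CommRingCat.ofHom (algebraMap k k)) = 𝟙 (B0 k) := Spec.map_id _
    have H : IsPullback (pullback.fst (st k X) (𝟙 (B0 k)))
        (PicF.XT (st k X) (Over.mk (𝟙 (B0 k))) ↘ Spec (CommRingCat.of k)) (X ↘ Spec (CommRingCat.of k))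
        (Spec.map (CommRingCat.ofHom (algebraMap k k))) := by
      rw [h3]
      exact IsPullback.of_hasPullback _ _
    have hd : ∀ {M : X.Modules} {n : ℕ}, FlatMod.IsFinLocFreeOfRank n M →
        Curv2.deg k (PicF.XT (st k X) (Over.mk (𝟙 (B0 k)))) (cst k (Over.mk (𝟙 (B0 k))) M) n = Curv2.deg k X M n :=
      fun {M n} hM => CurvesB.VABaseChange.deg_eq (k := k) (K := k) H M
        (Ega2.QCohLocal.isQCoh_of_isFinLocFree (Krr.H495.Rank.isFinLocFree_of_rank hM)) n
    have h4 := semistable_of_iso e.symm (ssb_point hdim hL hF).2.2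
    intro F' r' i hi h0 hF'
    have h5 : Mono ((K824.Fam.cF (Over.mk (𝟙 (B0 k)))).map i) := inferInstance
    have h6 := h4 (cst k (Over.mk (𝟙 (B0 k))) F') r' ((K824.Fam.cF (Over.mk (𝟙 (B0 k)))).map i) h5 h0
      (PerfB.FibreConc.isFinLocFreeOfRank_pullback _ hF')
    rw [hd hF'] at h6
    have h7 := hd h1
    rw [h7] at h6
    exact h6
  · rw [dg_of_rank k h1, K420.DetMain.deg_det k hdim h1 h2, hL]

end K524.X1Pt
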