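import Groth.Agent.BunMod.K524.X1Fam

/-!
# The open family of semistable bundles among the cokernels of `K ⟶ G` (helper524)

`exists_fam`: `e : Fin n → (K ⟶ G)`, `K` invertible, `G` of rank `r + 1`, `det G = K ⊗ L`: there are an open subscheme
`T` of the affine space and a family `E` on `X_T` of semistable bundles of rank `r` and determinant `L` whose fibres at the
`k`-points of `T` are the semistable bundles of rank `r` and determinant `L` of the form `coker (∑ a i • e i)`.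
-/

set_option autoImplicit false
universe u

open CategoryTheory CategoryTheory.Limits AlgebraicGeometry

namespace K524.X1Open

open K140.BM K311.KE Groth.Agent Groth.Agent.LoccohB.HHmap Groth.Agent.LoccohB.SectLin303 K524.X1Fam K824.Join
  K562.OkPull

variable {k : Type u} [Field k] {X : Scheme.{u}} [X.Over (Spec (CommRingCat.of k))]

theorem detIs_of_iso {r : ℕ} {L : X.Modules} {T : Over (B0 k)} {E E' : (PicF.XT (st k X) T).Modules} (i : E ≅ E')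
    (h : ModFun.DetIs (st k X) r L T E) : ModFun.DetIs (st k X) r L T E' := by
  obtain ⟨D, h1, h2⟩ := h
  exact ⟨D, K994.DblDual.isExtPow_of_iso_left i h1, h2⟩

variable {K G D L : X.Modules} {n : ℕ} (e : Fin n → (K ⟶ G)) {r : ℕ}

theorem detIs_FE (hK : PicF.IsInvertible K) (hG : FlatMod.IsFinLocFreeOfRank (r + 1) G)
    (hD : ExtPow.IsExtPow (1 + r) G D) (hL : PicF.IsInvertible L) (hKL : Nonempty (CohB1.tensorMod K L ≅ D))
    (T : Over (B0 k)) (c : Fin n → Γ(T.left, ⊤)) (h : FlatMod.IsFinLocFreeOfRank r (FE e T c)) :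
    ModFun.DetIs (st k X) r L T (FE e T c) := by
  have hK1 : FlatMod.IsFinLocFreeOfRank 1 K := Ega2.QCohLocal.isFinLocFreeOfRank_one_iff.mpr hK
  have hKT : FlatMod.IsFinLocFreeOfRank 1 (cst k T K) := PerfB.FibreConc.isFinLocFreeOfRank_pullback _ hK1
  have hGT : FlatMod.IsFinLocFreeOfRank (r + 1) (cst k T G) := PerfB.FibreConc.isFinLocFreeOfRank_pullback _ hG
  have hm : Mono (uu e T c) := X1Coker.mono_of_rank hKT hGT _ h
  have hS : (ShortComplex.mk (uu e T c) (cokernel.π (uu e T c)) (cokernel.condition _)).ShortExact :=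
    { exact := ShortComplex.exact_cokernel _
      mono_f := hm
      epi_g := inferInstanceAs (Epi (cokernel.π (uu e T c))) }
  obtain ⟨E, hE⟩ := K482.CanonTool.exists_isExtPow r (Krr.H495.Rank.isFinLocFree_of_rank h)
  obtain ⟨i⟩ := K482.DetSes.det_ses hS hKT h (Sga67.TensorOps.isExtPow_one _)
    (K482.CanonTool.isExtPow_pullback _ (Krr.H495.Rank.isFinLocFree_of_rank hG) hD) hE
  obtain ⟨i'⟩ := hKL
  refine ⟨E, hE, K824.Det.r_of_iso _ (K482.TensCalc.cancel_left (Fdesc.LocGen.isInvertible_pullback _ hK)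
    ⟨(Ega3B.PullTensor.pullTensorIso _ hK hL).symm ≪≫ (Scheme.Modules.pullback _).mapIso i' ≪≫ i.symm⟩)⟩

variable [IsAlgClosed k]

/-- Functions on the point. -/
theorem exists_kOf (c : Γ((Over.mk (𝟙 (B0 k))).left, ⊤)) :
    ∃ a : k, c = (Over.mk (𝟙 (B0 k))).hom.appTop (kOf k a) := by
  refine ⟨(Scheme.ΓSpecIso (CommRingCat.of k)).hom c, ?_⟩
  have h1 : (Over.mk (𝟙 (B0 k))).hom.appTop = 𝟙 _ := Scheme.Hom.id_appTop
  rw [h1]
  exact (Iso.hom_inv_id_apply (Scheme.ΓSpecIso (CommRingCat.of k)) c).symm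

/-- **The open family.** -/
theorem exists_fam [IsProper (X ↘ Spec (CommRingCat.of k))] [Smooth (X ↘ Spec (CommRingCat.of k))]
    [GeometricallyConnected (X ↘ Spec (CommRingCat.of k))] [IsIntegral X] (hdim : topologicalKrullDim X = 1)
    (hr : 1 ≤ r) (hK : PicF.IsInvertible K) (hG : FlatMod.IsFinLocFreeOfRank (r + 1) G)
    (hD : ExtPow.IsExtPow (1 + r) G D) (hL : PicF.IsInvertible L) (hL0 : Curv2.deg k X L 1 = 0)
    (hKL : Nonempty (CohB1.tensorMod K L ≅ D)) :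
    ∃ (T : Over (B0 k)) (j : T ⟶ sA k (MvPolynomial (Fin n) k)) (E : (PicF.XT (st k X) T).Modules),
      IsOpenImmersion j.left ∧ BunMod.ussDetOK (st k X) r L T E ∧
      ∀ F : (PicF.XT (st k X) (Over.mk (𝟙 (B0 k)))).Modules,
        BunMod.ussDetOK (st k X) r L (Over.mk (𝟙 (B0 k))) F →
        ((∃ w : Over.mk (𝟙 (B0 k)) ⟶ T, Nonempty (pl k X w E ≅ F)) ↔
          ∃ a : Fin n → k, Nonempty (cst k (Over.mk (𝟙 (B0 k))) (cokernel (ua e a)) ≅ F)) := by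
  have hK1 : FlatMod.IsFinLocFreeOfRank 1 K := Ega2.QCohLocal.isFinLocFreeOfRank_one_iff.mpr hK
  let T₀ : Over (B0 k) := sA k (MvPolynomial (Fin n) k)
  let c₀ : Fin n → Γ(T₀.left, ⊤) := fun i => kOf (MvPolynomial (Fin n) k) (MvPolynomial.X i)
  obtain ⟨A, hA⟩ := exists_good e hK1 hG T₀ c₀
  let T₁ : Over (B0 k) := opn T₀ A
  let F₁ : (PicF.XT (st k X) T₁).Modules := pl k X (opi T₀ A) (FE e T₀ c₀)
  have hF₁ : FlatMod.IsFinLocFreeOfRank r F₁ := (hA T₁ (opi T₀ A)).2 fun x => x.2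
  have hN : IsNoetherian T₀.left :=
    inferInstanceAs (IsNoetherian (Spec (CommRingCat.of (MvPolynomial (Fin n) k))))
  have hN₁ : IsNoetherian T₁.left := by
    have h1 : IsLocallyNoetherian T₁.left := isLocallyNoetherian_of_isOpenImmersion A.ι
    have h2 : CompactSpace T₁.left := isCompact_iff_compactSpace.1 (TopologicalSpace.NoetherianSpace.isCompact _)
    exact {}
  let 𝒰 : Set T₁.left.Opens := {U | ∀ (Ω : Type u) [Field Ω] (s : Spec (CommRingCat.of Ω) ⟶ B0 k)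
    (c : Over.mk s ⟶ T₁), c.left (IsLocalRing.closedPoint Ω) ∈ U → SSB r s (pl k X c F₁)}
  let W : T₁.left.Opens := sSup 𝒰
  have hW : ∀ (Ω : Type u) [Field Ω] (s : Spec (CommRingCat.of Ω) ⟶ B0 k)
      (c : Over.mk s ⟶ T₁), c.left (IsLocalRing.closedPoint Ω) ∈ W → SSB r s (pl k X c F₁) := by
    intro Ω _ s c hc
    obtain ⟨U, hU, hc⟩ := TopologicalSpace.Opens.mem_sSup.1 hc
    exact hU Ω s c hc
  let T : Over (B0 k) := opn T₁ W
  let E : (PicF.XT (st k X) T).Modules := pl k X (opi T₁ W) F₁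
  have hiE : Nonempty (E ≅ FE e T (fun i => (opi T₁ W ≫ opi T₀ A).left.appTop (c₀ i))) := by
    obtain ⟨i⟩ := nonempty_pl e (opi T₁ W ≫ opi T₀ A) c₀
    exact ⟨plC _ _ _ ≪≫ i⟩
  have hEr : FlatMod.IsFinLocFreeOfRank r E := PerfB.FibreConc.isFinLocFreeOfRank_pullback _ hF₁
  refine ⟨T, opi T₁ W ≫ opi T₀ A, E, ?_, ⟨hEr, ?_, ?_⟩, fun F hF => ⟨?_, ?_⟩⟩
  · change IsOpenImmersion (W.ι ≫ A.ι)
    infer_instance
  · obtain ⟨i⟩ := hiE
    exact detIs_of_iso i.symm (detIs_FE e hK hG hD hL hKL _ _ (isFinLocFreeOfRank_of_iso i hEr))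
  · refine (fibrewise_iff (st k X) _ _ _).2 fun Ω _ _ s c => ?_
    have h1 : SSB r s (pl k X (c ≫ opi T₁ W) F₁) :=
      hW Ω s _ (c.left (IsLocalRing.closedPoint Ω)).2
    exact (SSB_iso ⟨(plC c (opi T₁ W) F₁).symm⟩ h1).2.2
  · rintro ⟨w, ⟨i⟩⟩
    obtain ⟨i₁⟩ := nonempty_pl e (w ≫ opi T₁ W ≫ opi T₀ A) c₀
    choose a ha using fun i => exists_kOf (k := k) ((w ≫ opi T₁ W ≫ opi T₀ A).left.appTop (c₀ i))
    have h2 : (fun i => (w ≫ opi T₁ W ≫ opi T₀ A).left.appTop (c₀ i)) =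
      fun i => (Over.mk (𝟙 (B0 k))).hom.appTop (kOf k (a i)) := funext ha
    rw [h2] at i₁
    obtain ⟨i₂⟩ := nonempty_cst e (Over.mk (𝟙 (B0 k))) a
    exact ⟨a, ⟨i₂.symm ≪≫ i₁.symm ≪≫ (plC w (opi T₁ W ≫ opi T₀ A) _).symm ≪≫
      plI w (plC _ _ _).symm ≪≫ i⟩⟩
  · rintro ⟨a, ⟨i⟩⟩
    let g₀ : Over.mk (𝟙 (B0 k)) ⟶ T₀ := pA (MvPolynomial.aeval (R := k) a)
    have h1 : (fun i => g₀.left.appTop (c₀ i)) = fun i => (Over.mk (𝟙 (B0 k))).hom.appTop (kOf k (a i)) := by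
      funext i
      refine (appTop_kOf (MvPolynomial.aeval (R := k) a).toRingHom (MvPolynomial.X i)).trans ?_
      have h2 : (MvPolynomial.aeval (R := k) a).toRingHom (MvPolynomial.X i) = a i := MvPolynomial.aeval_X a i
      rw [h2]
      have h3 : (Over.mk (𝟙 (B0 k))).hom.appTop = 𝟙 _ := Scheme.Hom.id_appTop
      rw [h3]
      rfl
    obtain ⟨i₁⟩ := nonempty_pl e g₀ c₀
    rw [h1] at i₁
    obtain ⟨i₂⟩ := nonempty_cst e (Over.mk (𝟙 (B0 k))) a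
    have hg₀ : FlatMod.IsFinLocFreeOfRank r (pl k X g₀ (FE e T₀ c₀)) :=
      isFinLocFreeOfRank_of_iso (i₁ ≪≫ i₂ ≪≫ i).symm hF.1
    obtain ⟨g₁, hg₁⟩ := exists_opn A g₀ ((hA _ g₀).1 hg₀)
    have i₃ : pl k X g₁ F₁ ≅ F :=
      plC g₁ (opi T₀ A) _ ≪≫ eqToIso (by rw [hg₁]) ≪≫ i₁ ≪≫ i₂ ≪≫ i
    obtain ⟨U, hU₁, hU₂⟩ := exists_open hdim hr T₁ F₁ hF₁ g₁ (SSB_iso ⟨i₃.symm⟩ (ssb_point hdim hL0 hF))
    have hUW : U ≤ W := le_sSup (fun Ω _ s c => hU₂ Ω s c)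
    obtain ⟨g₂, hg₂⟩ := exists_opn W g₁ (fun x => by
      have hss : Subsingleton ((Over.mk (𝟙 (B0 k))).left : Scheme.{u}) :=
        inferInstanceAs (Subsingleton (PrimeSpectrum k))
      rw [Subsingleton.elim x (IsLocalRing.closedPoint k)]
      exact hUW hU₁)
    exact ⟨g₂, ⟨plC g₂ (opi T₁ W) _ ≪≫ eqToIso (by rw [hg₂]) ≪≫ i₃⟩⟩

end K524.X1Open
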