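import Mathlib.CategoryTheory.Preadditive.Biproducts
import Mathlib.CategoryTheory.Preadditive.AdditiveFunctor
import Mathlib.Algebra.Group.Subgroup.Lattice
import Mathlib.Algebra.Group.Subgroup.Finite
import Mathlib.Algebra.BigOperators.Fin

/-!
# Objects whose identity is a sum of maps factoring through a given object

`Add Q M`: the identity of `M` is a finite sum of compositions `M ⟶ Q ⟶ M`, i.e. `M` is a retract of a finite direct
sum of copies of `Q`.  Closed under additive functors, retracts and composition.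
-/

set_option autoImplicit false

open CategoryTheory CategoryTheory.Limits

namespace K524.AddC

universe v u v' u'
variable {C : Type u} [Category.{v} C] [Preadditive C] {D : Type u'} [Category.{v'} D] [Preadditive D]

/-- The maps `M ⟶ N` which are sums of maps factoring through `Q`. -/
def thr (Q M N : C) : AddSubgroup (M ⟶ N) :=
  AddSubgroup.closure {f | ∃ (i : M ⟶ Q) (p : Q ⟶ N), i ≫ p = f}

theorem mem_thr {Q M N : C} (i : M ⟶ Q) (p : Q ⟶ N) : i ≫ p ∈ thr Q M N :=
  AddSubgroup.subset_closure ⟨i, p, rfl⟩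

theorem comp_mem {Q M N M' N' : C} (a : M' ⟶ M) (b : N ⟶ N') {f : M ⟶ N} (hf : f ∈ thr Q M N) :
    a ≫ f ≫ b ∈ thr Q M' N' := by
  induction hf using AddSubgroup.closure_induction with
  | mem x hx =>
    obtain ⟨i, p, rfl⟩ := hx
    have : a ≫ (i ≫ p) ≫ b = (a ≫ i) ≫ (p ≫ b) := by simp
    rw [this]
    exact mem_thr _ _
  | zero => simpa using (thr Q M' N').zero_mem
  | add x y _ _ hx hy => simpa using (thr Q M' N').add_mem hx hy
  | neg x _ hx => simpa using (thr Q M' N').neg_mem hx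

/-- `M` is a retract of a finite direct sum of copies of `Q`. -/
def Add (Q M : C) : Prop := 𝟙 M ∈ thr Q M M

theorem Add.thr_le {Q R : C} (h : Add R Q) (M N : C) : thr Q M N ≤ thr R M N := by
  rw [thr, AddSubgroup.closure_le]
  rintro _ ⟨i, p, rfl⟩
  have := comp_mem i p h
  simpa using this

theorem Add.trans {Q R M : C} (h : Add R Q) (h' : Add Q M) : Add R M := h.thr_le _ _ h'

theorem Add.of_retract {Q M : C} (i : M ⟶ Q) (r : Q ⟶ M) (h : i ≫ r = 𝟙 M) : Add Q M := by
  rw [Add, ← h]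
  exact mem_thr i r

theorem Add.refl (Q : C) : Add Q Q := .of_retract (𝟙 Q) (𝟙 Q) (Category.comp_id _)

theorem Add.of_iso {Q M : C} (e : Q ≅ M) : Add Q M := .of_retract e.inv e.hom e.inv_hom_id

theorem Add.congr {Q M Q' M' : C} (h : Add Q M) (e : Q ≅ Q') (f : M ≅ M') : Add Q' M' :=
  (Add.of_iso e.symm).trans (h.trans (.of_iso f))

theorem Add.retract {Q M N : C} (h : Add Q N) (i : M ⟶ N) (r : N ⟶ M) (hir : i ≫ r = 𝟙 M) : Add Q M :=
  h.trans (.of_retract i r hir)

theorem map_mem (F : C ⥤ D) [F.Additive] {Q M N : C} {f : M ⟶ N} (hf : f ∈ thr Q M N) :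
    F.map f ∈ thr (F.obj Q) (F.obj M) (F.obj N) := by
  induction hf using AddSubgroup.closure_induction with
  | mem x hx =>
    obtain ⟨i, p, rfl⟩ := hx
    rw [F.map_comp]
    exact mem_thr _ _
  | zero => rw [F.map_zero]; exact (thr _ _ _).zero_mem
  | add x y _ _ hx hy => rw [F.map_add]; exact (thr _ _ _).add_mem hx hy
  | neg x _ hx => rw [F.map_neg]; exact (thr _ _ _).neg_mem hx

theorem Add.map (F : C ⥤ D) [F.Additive] {Q M : C} (h : Add Q M) : Add (F.obj Q) (F.obj M) := by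
  rw [Add, ← F.map_id]
  exact map_mem F h

theorem Add.isZero {Q M : C} (h : Add Q M) (hQ : IsZero Q) : IsZero M := by
  have h1 : thr Q M M ≤ ⊥ := by
    rw [thr, AddSubgroup.closure_le]
    rintro _ ⟨i, p, rfl⟩
    rw [SetLike.mem_coe, AddSubgroup.mem_bot, hQ.eq_of_tgt i 0, zero_comp]
  rw [IsZero.iff_id_eq_zero]
  exact h1 h

/-- The matrix form. -/
theorem exists_sum {Q M N : C} {f : M ⟶ N} (hf : f ∈ thr Q M N) :
    ∃ (n : ℕ) (i : Fin n → (M ⟶ Q)) (p : Fin n → (Q ⟶ N)), ∑ j, i j ≫ p j = f := by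
  induction hf using AddSubgroup.closure_induction with
  | mem x hx =>
    obtain ⟨i, p, rfl⟩ := hx
    exact ⟨1, fun _ => i, fun _ => p, by simp⟩
  | zero => exact ⟨0, fun _ => 0, fun _ => 0, by simp⟩
  | add x y _ _ hx hy =>
    obtain ⟨n, i, p, hip⟩ := hx
    obtain ⟨n', i', p', hip'⟩ := hy
    refine ⟨n + n', Fin.append i i', Fin.append p p', ?_⟩
    rw [Fin.sum_univ_add, ← hip, ← hip']
    simp
  | neg x _ hx =>
    obtain ⟨n, i, p, hip⟩ := hx
    refine ⟨n, fun j => -i j, p, ?_⟩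
    rw [← hip, ← Finset.sum_neg_distrib]
    exact Finset.sum_congr rfl fun j _ => Preadditive.neg_comp _ _

theorem Add.exists_biproduct [HasFiniteBiproducts C] {Q M : C} (h : Add Q M) :
    ∃ (n : ℕ) (i : M ⟶ ⨁ fun _ : Fin n => Q) (r : (⨁ fun _ : Fin n => Q) ⟶ M), i ≫ r = 𝟙 M := by
  obtain ⟨n, i, p, h⟩ := exists_sum h
  refine ⟨n, biproduct.lift i, biproduct.desc p, ?_⟩
  rw [biproduct.lift_desc, h]

theorem Add.biproduct [HasFiniteBiproducts C] (Q : C) (n : ℕ) : Add Q (⨁ fun _ : Fin n => Q) := by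
  rw [Add, ← biproduct.total]
  exact AddSubgroup.sum_mem _ fun j _ => mem_thr _ _

theorem Add.coprod [HasFiniteBiproducts C] (Q : C) (n : ℕ) [HasCoproduct fun _ : Fin n => Q] :
    Add Q (∐ fun _ : Fin n => Q) :=
  (Add.biproduct Q n).congr (Iso.refl _) (biproduct.isoCoproduct _)

end K524.AddC
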