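import Groth.Agent.AbVar.K524.MatEnd
import Groth.Agent.S4112
import Groth.Agent.AGF.K497.OrbClos

/-!
# The endomorphism `[a] × [b]` of `J × J` is finite étale of constant degree
-/

set_option autoImplicit false
universe u
open CategoryTheory CategoryTheory.Limits AlgebraicGeometry MonoidalCategory CartesianMonoidalCategory MonObj

namespace K524.Psi

open K524.MatEnd

variable {k : Type u} [Field k] {J : Over (Spec (CommRingCat.of k))} [GrpObj J]

/-- The morphism `[a] × [b]`. -/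
noncomputable abbrev psi (J : Over (Spec (CommRingCat.of k))) [GrpObj J] (a b : ℕ) : J ⊗ J ⟶ J ⊗ J :=
  ((𝟙 J : J ⟶ J) ^ a) ⊗ₘ ((𝟙 J : J ⟶ J) ^ b)

theorem psi_fst (a b : ℕ) : psi J a b ≫ fst J J = fst J J ≫ (𝟙 J : J ⟶ J) ^ a := by simp

theorem psi_snd (a b : ℕ) : psi J a b ≫ snd J J = snd J J ≫ (𝟙 J : J ⟶ J) ^ b := by simp

theorem ff_pow [IsCommMonObj J] [IsProper J.hom] [GeometricallyIntegral J.hom] (g : ℕ)
    (hg : topologicalKrullDim J.left = g) (a : ℕ) (ha : 1 ≤ a) :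
    FF ((𝟙 J : J ⟶ J) ^ a).left (a ^ (2 * g)) := by
  have h := Groth.Agent.S1842.result k J g hg (a : ℤ) (by positivity)
  rw [zpow_natCast, Int.natAbs_natCast] at h
  exact h

theorem psi_eq (a b : ℕ) : psi J a b = ((𝟙 J : J ⟶ J) ^ a) ▷ J ≫ J ◁ ((𝟙 J : J ⟶ J) ^ b) := by
  exact MonoidalCategory.tensorHom_def _ _

theorem ff_psi [IsCommMonObj J] [IsProper J.hom] [GeometricallyIntegral J.hom] (g : ℕ)
    (hg : topologicalKrullDim J.left = g) (a b : ℕ) (ha : 1 ≤ a) (hb : 1 ≤ b) :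
    FF (psi J a b).left (a ^ (2 * g) * b ^ (2 * g)) := by
  rw [psi_eq, Over.comp_left]
  have h1 := ((K497.OrbClos.isPullback_whiskerRight J ((𝟙 J : J ⟶ J) ^ a)).map (Over.forget _)).flip
  have h2 := ((K497.OrbClos.isPullback_whiskerLeft J ((𝟙 J : J ⟶ J) ^ b)).map (Over.forget _)).flip
  exact (FF.of_isPullback h1 (ff_pow g hg a ha)).comp (FF.of_isPullback h2 (ff_pow g hg b hb))

theorem etale_psi [IsCommMonObj J] [LocallyOfFiniteType J.hom] [QuasiCompact J.hom] (a b : ℕ) (ha : (a : k) ≠ 0)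
    (hb : (b : k) ≠ 0) : Etale (psi J a b).left := by
  rw [psi_eq, Over.comp_left]
  have h1 := ((K497.OrbClos.isPullback_whiskerRight J ((𝟙 J : J ⟶ J) ^ a)).map (Over.forget _)).flip
  have h2 := ((K497.OrbClos.isPullback_whiskerLeft J ((𝟙 J : J ⟶ J) ^ b)).map (Over.forget _)).flip
  have h3 := MorphismProperty.of_isPullback (P := @Etale) h1 (Groth.Agent.S4112.result k J a ha)
  have h4 := MorphismProperty.of_isPullback (P := @Etale) h2 (Groth.Agent.S4112.result k J b hb)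
  exact MorphismProperty.comp_mem _ _ _ h3 h4

end K524.Psi
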