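import Groth.Agent.AbVar.K524.Kun
import Groth.Agent.AbVar.K518.Phi
import Groth.Agent.CohqA.AffineVanish
import Groth.Agent.BunMod.K524.Psi

/-!
# Automorphisms `(t, y) ↦ (t, f(t) y)` of `T × J`; the two cartesian squares; vanishing on `T × J`, `T` affine
-/

set_option autoImplicit false
universe u
open CategoryTheory CategoryTheory.Limits MonoidalCategory CartesianMonoidalCategory AlgebraicGeometry
open scoped MonObj
open Groth.Agent Groth.Agent.Grpsch.PicGrp Groth.Agent.Grpsch.Cube K524.Kun

namespace K524.FamVan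

section Cat

variable {C : Type*} [Category C] [CartesianMonoidalCategory C] {J : C} [GrpObj J]

/-- The automorphism `(t, y) ↦ (t, f(t) y)` of `T ⊗ J`. -/
noncomputable def shr {T : C} (f : T ⟶ J) : T ⊗ J ≅ T ⊗ J where
  hom := lift (fst T J) ((fst T J ≫ f) * snd T J)
  inv := lift (fst T J) ((fst T J ≫ f)⁻¹ * snd T J)
  hom_inv_id := by
    apply CartesianMonoidalCategory.hom_ext
    · simp
    · rw [Category.assoc, lift_snd, MonObj.comp_mul, GrpObj.comp_inv, ← Category.assoc, lift_fst, lift_snd,
        Category.id_comp, inv_mul_cancel_left]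
  inv_hom_id := by
    apply CartesianMonoidalCategory.hom_ext
    · simp
    · rw [Category.assoc, lift_snd, MonObj.comp_mul, ← Category.assoc, lift_fst, lift_snd,
        Category.id_comp, mul_inv_cancel_left]

theorem shr_fst {T : C} (f : T ⟶ J) : (shr f).hom ≫ fst T J = fst T J := by simp [shr]
theorem shr_snd {T : C} (f : T ⟶ J) : (shr f).hom ≫ snd T J = (fst T J ≫ f) * snd T J := by simp [shr]

/-- The automorphism `(x, y) ↦ (x y, y)` of `J ⊗ J`. -/
noncomputable def shl (J : C) [GrpObj J] : J ⊗ J ≅ J ⊗ J where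
  hom := lift (fst J J * snd J J) (snd J J)
  inv := lift (fst J J * (snd J J)⁻¹) (snd J J)
  hom_inv_id := by
    apply CartesianMonoidalCategory.hom_ext
    · rw [Category.assoc, lift_fst, MonObj.comp_mul, GrpObj.comp_inv, lift_fst, lift_snd, Category.id_comp,
        mul_inv_cancel_right]
    · simp
  inv_hom_id := by
    apply CartesianMonoidalCategory.hom_ext
    · rw [Category.assoc, lift_fst, MonObj.comp_mul, lift_fst, lift_snd, Category.id_comp,
        inv_mul_cancel_right]
    · simp

theorem shl_fst : (shl J).hom ≫ fst J J = μ[J] := by simp [shl, MonObj.mul_eq_mul]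
theorem shl_snd : (shl J).hom ≫ snd J J = snd J J := by simp [shl]

end Cat

theorem isPullback_comp_iso {C : Type*} [Category C] {P P' X Y S : C} {a : P ⟶ X} {b : P ⟶ Y} {f : X ⟶ S} {g : Y ⟶ S}
    (h : IsPullback a b f g) (τ : P' ⟶ P) [IsIso τ] {a' : P' ⟶ X} {b' : P' ⟶ Y} (ha : τ ≫ a = a') (hb : τ ≫ b = b') :
    IsPullback a' b' f g :=
  IsPullback.of_iso h (asIso τ).symm (Iso.refl _) (Iso.refl _) (Iso.refl _) (by simp [← ha]) (by simp [← hb])
    (by simp) (by simp)

variable {k : Type u} [Field k]

theorem isPullback_tensor (X Y : Over (Spec (CommRingCat.of k))) :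
    IsPullback (fst X Y).left (snd X Y).left X.hom Y.hom := IsPullback.of_hasPullback X.hom Y.hom

variable {J : Over (Spec (CommRingCat.of k))} [GrpObj J]

/-- `T ⊗ J` is the product through `fst` and `(t, y) ↦ f(t) y`. -/
theorem isPullback_shr {T : Over (Spec (CommRingCat.of k))} (f : T ⟶ J) :
    IsPullback (fst T J).left ((fst T J ≫ f) * snd T J).left T.hom J.hom :=
  isPullback_comp_iso (isPullback_tensor T J) (shr f).hom.left
    (by rw [← Over.comp_left, shr_fst]) (by rw [← Over.comp_left, shr_snd])

/-- `J ⊗ J` is the product through `fst` and the multiplication. -/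
theorem isPullback_mu : IsPullback (fst J J).left (μ[J]).left J.hom J.hom := by
  have h := isPullback_shr (𝟙 J)
  have h1 : (fst J J ≫ 𝟙 J) * snd J J = μ[J] := by
    rw [Category.comp_id, MonObj.mul_eq_mul]
  rwa [h1] at h

/-- `J ⊗ J` is the product through the multiplication and `snd`. -/
theorem isPullback_mu' : IsPullback (μ[J]).left (snd J J).left J.hom J.hom :=
  isPullback_comp_iso (isPullback_tensor J J) (shl J).hom.left
    (by rw [← Over.comp_left, shl_fst]) (by rw [← Over.comp_left, shl_snd])

/-- Vanishing on `T ⊗ J` for `T` affine. -/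
theorem van {T : Over (Spec (CommRingCat.of k))} [IsAffine T.left] [QuasiCompact J.hom] [IsSeparated J.hom]
    (f : T ⟶ J) (c : Pic J.left) (hc : ∀ i, 0 < i → Van c i) (n : ℕ) (hn : 0 < n) :
    Van (pl (fst T J) (pl f c) * pl ((fst T J ≫ f) * snd T J) c) n := by
  have h1 : pl (fst T J) (pl f c) * pl ((fst T J ≫ f) * snd T J) c =
      pl (shr f).hom (pl (fst T J) (pl f c) * pl (snd T J) c) := by
    rw [map_mul, ← pl_comp (shr f).hom (fst T J), ← pl_comp (shr f).hom (snd T J), shr_fst, shr_snd]
  rw [h1]
  have i1 : QuasiCompact T.hom := inferInstance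
  have i2 : IsSeparated T.hom := inferInstance
  have h2 := (van_pull_iso (shr f).hom.left (pl (fst T J) (pl f c) * pl (snd T J) c) n).2
  refine h2 ((van_box_iff T J (pl f c) c n).2 fun a b hab => ?_)
  rcases Nat.eq_zero_or_pos b with rfl | hb
  · left
    intro L hL _
    have : Coh.IsQCoh L := isQCoh_of_isInvertible hL
    exact CohqA.AffineVanish.HH_subsingleton T.left L a (by omega)
  · exact Or.inr (hc b hb)

end K524.FamVan
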