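import Groth.Agent.VarietyB.FlatH0
import Groth.Agent.VarietyB.ProjForm
import Groth.Agent.CohqA.PullbackQCoh

/-!
# `p₁_* p₂^* M` is free on a basis of `H⁰(Y, M)` (over a field)
-/

set_option autoImplicit false
universe u
open CategoryTheory CategoryTheory.Limits AlgebraicGeometry TopologicalSpace Opposite TensorProduct

namespace K524.FlatPush

open Groth.Agent Groth.Agent.VarietyB Groth.Agent.VarietyB.FlatH0 Groth.Agent.VarietyB.TensLoc
open Groth.Agent.VarietyB.PullLoc Groth.Agent.VarietyB.BCAlg Groth.Agent.VarietyB.PullSec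

variable {X Y P S : Scheme.{u}} {x : X ⟶ S} {y : Y ⟶ S} {p₁ : P ⟶ X} {p₂ : P ⟶ Y}

/-- the sections `p₂^* t` as sections of `p₁_* p₂^* M`. -/
noncomputable def psec (p₁ : P ⟶ X) (p₂ : P ⟶ Y) {M : Y.Modules} (t : Γ(M, ⊤)) (V : X.Opens) :
    Γ((Scheme.Modules.pushforward p₁).obj ((Scheme.Modules.pullback p₂).obj M), V) :=
  show Γ((Scheme.Modules.pullback p₂).obj M, p₁ ⁻¹ᵁ V) from sec p₂ M (le_top : p₁ ⁻¹ᵁ V ≤ p₂ ⁻¹ᵁ ⊤) t

theorem res_psec {M : Y.Modules} (t : Γ(M, ⊤)) {V W : X.Opens} (h : W ≤ V) :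
    res _ h (psec p₁ p₂ t V) = psec p₁ p₂ t W := by
  have h1 : ((Scheme.Modules.pullback p₂).obj M).presheaf.map (homOfLE (p₁.preimage_mono h)).op
      (sec p₂ M (le_top : p₁ ⁻¹ᵁ V ≤ p₂ ⁻¹ᵁ ⊤) t) = sec p₂ M (le_top : p₁ ⁻¹ᵁ W ≤ p₂ ⁻¹ᵁ ⊤) t := by
    refine (sec_res p₂ M (le_top : p₁ ⁻¹ᵁ V ≤ p₂ ⁻¹ᵁ ⊤) (le_top : p₁ ⁻¹ᵁ W ≤ p₂ ⁻¹ᵁ ⊤)
      (le_refl (⊤ : Y.Opens)) (p₁.preimage_mono h) t).trans ?_
    exact congrArg _ (res_self M le_rfl t)
  exact h1

/-- **`p₁_* p₂^* M` is free on a basis of global sections of `M`.** -/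
theorem isBasis_psec (H : IsPullback p₂ p₁ y x) [Flat x] [IsAffine S] [CompactSpace Y] [QuasiSeparatedSpace Y]
    (M : Y.Modules) (hM : Coh.IsQCoh M) {n : ℕ}
    (b : letI := modOver y M (US := ⊤) (UX := ⊤) le_top; Module.Basis (Fin n) Γ(S, ⊤) Γ(M, ⊤)) :
    IsBasis ((Scheme.Modules.pushforward p₁).obj ((Scheme.Modules.pullback p₂).obj M)) ⊤
      (fun i => psec p₁ p₂ (b i) ⊤) := by
  obtain ⟨e, he⟩ := exists_isBasis_freeMod X n
  let N := (Scheme.Modules.pushforward p₁).obj ((Scheme.Modules.pullback p₂).obj M)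
  let s : Fin n → Γ(N, ⊤) := fun i => psec p₁ p₂ (b i) ⊤
  let φ := homOfBasis N he s
  have hφ : IsIso φ := by
    refine CohqA.PullbackQCoh.isIso_of_bijective_basis φ (fun V : X.affineOpens => V.1) ?_ ?_
    · rw [Subtype.range_coe]
      exact X.isBasis_affineOpens
    · rintro ⟨V, hV⟩
      have h1 : Function.Bijective (φ.app V ∘ comb e (le_top : V ≤ ⊤)) := by
        have h2 : φ.app V ∘ comb e (le_top : V ≤ ⊤) = comb s (le_top : V ≤ ⊤) :=
          funext fun a => homOfBasis_app N he s a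
        rw [h2]
        have hbc := isBC_of_isQuasiSeparated H M hM (US := ⊤) (UT := V) le_top (UX := ⊤) le_top
          (UY := p₁ ⁻¹ᵁ V) (by simp) le_top le_rfl (isAffineOpen_top S) hV isCompact_univ
          isQuasiSeparated_univ
        let i1 := algOver x (US := ⊤) (UT := V) le_top
        let i3 := modOver y M (US := ⊤) (UX := ⊤) le_top
        let i4 := modOver p₁ ((Scheme.Modules.pullback p₂).obj M) (US := V) (UX := p₁ ⁻¹ᵁ V) le_rfl
        let b' : Module.Basis (Fin n) Γ(X, V) (Γ(X, V) ⊗[Γ(S, ⊤)] Γ(M, ⊤)) := b.baseChange Γ(X, V)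
        have h3 : (comb s (le_top : V ≤ ⊤) : (Fin n → Γ(X, V)) → Γ(N, V)) =
            (bc (secS H.w M (US := ⊤) (UT := V) le_top (UX := ⊤) le_top (UY := p₁ ⁻¹ᵁ V) le_top le_rfl)) ∘
              b'.equivFun.symm := by
          funext a
          rw [comb_apply, Function.comp_apply, Module.Basis.equivFun_symm_apply, map_sum]
          refine Finset.sum_congr rfl fun i _ => ?_
          rw [map_smul, res_psec]
          change _ = a i • bc _ ((b.baseChange Γ(X, V)) i)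
          rw [Module.Basis.baseChange_apply, bc_tmul, one_smul]
          change p₁.app V (a i) • (sec p₂ M (le_top : p₁ ⁻¹ᵁ V ≤ p₂ ⁻¹ᵁ ⊤) (b i)) =
            p₁.appLE V (p₁ ⁻¹ᵁ V) le_rfl (a i) • (sec p₂ M (le_top : p₁ ⁻¹ᵁ V ≤ p₂ ⁻¹ᵁ ⊤) (b i))
          rw [Scheme.Hom.appLE_eq_app]
        rw [h3]
        exact hbc.comp b'.equivFun.symm.bijective
      exact (Function.Bijective.of_comp_iff _ (he V le_top)).mp h1
  have h4 := (isBasis_app_iff φ e).2 he
  have h5 : (fun i => φ.app ⊤ (e i)) = s := funext fun i => homOfBasis_app_basis N he s i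
  rw [h5] at h4
  exact h4

end K524.FlatPush
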