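import Groth.Agent.Dcoh.PushFLF304
import Groth.Agent.RepF.K654.VanIdeal
import Groth.Agent.Ega2.QCohLocal
import Mathlib.RingTheory.Flat.EquationalCriterion
import Mathlib.AlgebraicGeometry.Noetherian
import Mathlib.AlgebraicGeometry.Morphisms.Finite
import Mathlib.AlgebraicGeometry.Morphisms.Flat

/-!
# The push forward of a finite locally free module under a finite flat morphism is finite locally free
-/

set_option autoImplicit false
universe u
open CategoryTheory CategoryTheory.Limits AlgebraicGeometry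

namespace K524.FlfPush

theorem isFinLocFree_pushforward {X Y : Scheme.{u}} (f : X ⟶ Y) [IsFinite f] [Flat f] [IsLocallyNoetherian Y]
    {M : X.Modules} (hM : FlatMod.IsFinLocFree M) :
    FlatMod.IsFinLocFree ((Scheme.Modules.pushforward f).obj M) := by
  have hq : Coh.IsQCoh M := Groth.Agent.Ega2.QCohLocal.isQCoh_of_isFinLocFree hM
  refine Groth.Agent.Dcoh.PushFLF304.isFinLocFree_pushforward' f hq (fun _ => True) (fun x => ?_) ?_
  · obtain ⟨V, hV, hx, -⟩ := exists_isAffineOpen_mem_and_subset (x := x) (U := ⊤) trivial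
    exact ⟨V, trivial, hV, hx⟩
  · intro V _ hV
    let i1 : Module Γ(Y, V) Γ(M, f ⁻¹ᵁ V) := Module.compHom _ (f.app V).hom
    let i2 : Algebra Γ(Y, V) Γ(X, f ⁻¹ᵁ V) := (f.app V).hom.toAlgebra
    have i3 : IsScalarTower Γ(Y, V) Γ(X, f ⁻¹ᵁ V) Γ(M, f ⁻¹ᵁ V) :=
      ⟨fun a b c => by rw [Algebra.smul_def, mul_smul]; rfl⟩
    have hU : IsAffineOpen (f ⁻¹ᵁ V) := hV.preimage f
    obtain ⟨h1, h2⟩ := K654.VanIdeal.finite_projective_sections hq hM hU
    have h3 : Module.Finite Γ(Y, V) Γ(X, f ⁻¹ᵁ V) := IsFinite.finite_app f V hV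
    have h4 : Module.Flat Γ(Y, V) Γ(X, f ⁻¹ᵁ V) := by
      have := f.flat_appLE hV hU le_rfl
      rwa [Scheme.Hom.appLE_eq_app] at this
    have h5 : IsNoetherianRing Γ(Y, V) := IsLocallyNoetherian.component_noetherian ⟨V, hV⟩
    have h6 : Module.Finite Γ(Y, V) Γ(M, f ⁻¹ᵁ V) := Module.Finite.trans Γ(X, f ⁻¹ᵁ V) _
    have h7 : Module.Flat Γ(Y, V) Γ(M, f ⁻¹ᵁ V) := Module.Flat.trans Γ(Y, V) Γ(X, f ⁻¹ᵁ V) _
    have h8 : Module.FinitePresentation Γ(Y, V) Γ(M, f ⁻¹ᵁ V) := Module.finitePresentation_of_finite _ _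
    exact ⟨h6, Module.Flat.projective_of_finitePresentation⟩

end K524.FlfPush
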