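import Groth.Agent.BunMod.K524.WPush
import Groth.Agent.VarietyB.HHPush

/-!
# Vanishing of the higher cohomology of `G = μ^* E ⊗ p₂^* E` on `T × J`, `T` affine
-/

set_option autoImplicit false
universe u
open CategoryTheory CategoryTheory.Limits MonoidalCategory CartesianMonoidalCategory AlgebraicGeometry
open scoped MonObj
open Groth.Agent Groth.Agent.Grpsch.PicGrp Groth.Agent.Grpsch.Cube K524.Kun K524.AddC K524.ModAdd K524.Psi K524.FamVan
open K524.WPush K524.MatEnd
open Groth.Agent.VarietyB.TensCoh (HasBases)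
open Groth.Agent.Fdesc.LocGen (isInvertible_tensorPow isInvertible_tensorMod isInvertible_pullback)

namespace K524.GVan

variable {k : Type u} [Field k]

theorem van_pf {T A : Over (Spec (CommRingCat.of k))} (a : T ⟶ A) [IsAffineHom a.left] {M : T.left.Modules}
    (hM : Coh.IsQCoh M) (n : ℕ) : Subsingleton (Coh.HH A.left (pf a M) n) ↔ Subsingleton (Coh.HH T.left M n) := by
  let _ : T.left.Over (Spec (CommRingCat.of k)) := ⟨T.hom⟩
  let _ : A.left.Over (Spec (CommRingCat.of k)) := ⟨A.hom⟩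
  obtain ⟨e⟩ := VarietyB.HHPush.exists_linearEquiv a.left k (Over.w a) M hM n
  exact e.toEquiv.subsingleton_congr

theorem isQCoh_of_flf {X : Scheme.{u}} {M : X.Modules} (h : FlatMod.IsFinLocFree M) : Coh.IsQCoh M :=
  Ega2.QCohLocal.isQCoh_of_isFinLocFree h

variable {J : Over (Spec (CommRingCat.of k))} [GrpObj J]

/-- `(f' × 1)^*(p₁^* C ⊗ μ^* C)` has no higher cohomology on `T' × J` for `T'` affine. -/
theorem van_FC {T : Over (Spec (CommRingCat.of k))} [IsAffine T.left] [QuasiCompact J.hom] [IsSeparated J.hom]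
    (f : T ⟶ J) {C : J.left.Modules} (hC : PicF.IsInvertible C)
    (hv : ∀ i, 0 < i → Subsingleton (Coh.HH J.left C i)) (n : ℕ) (hn : 0 < n) :
    Subsingleton (Coh.HH (T ⊗ J).left (pb (f ▷ J) (FC J C)) n) := by
  have h1 := FamVan.van f (mk C hC) (fun i hi => (van_mk hC i).2 (hv i hi)) n hn
  have h2 : mk (pb (f ▷ J) (FC J C)) (isInvertible_pullback _
      (isInvertible_tensorMod (isInvertible_pullback _ hC) (isInvertible_pullback _ hC))) =
      pl (fst T J) (pl f (mk C hC)) * pl ((fst T J ≫ f) * snd T J) (mk C hC) := by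
    rw [← pull_mk _ (isInvertible_tensorMod (isInvertible_pullback _ hC) (isInvertible_pullback _ hC)),
      ← mk_mul_mk (isInvertible_pullback _ hC) (isInvertible_pullback _ hC), ← pull_mk _ hC, ← pull_mk _ hC,
      map_mul]
    change pl (f ▷ J) (pl (fst J J) (mk C hC)) * pl (f ▷ J) (pl μ[J] (mk C hC)) = _
    rw [← pl_comp, ← pl_comp, ← pl_comp, whiskerRight_fst, MonObj.mul_eq_mul, MonObj.comp_mul, whiskerRight_fst,
      whiskerRight_snd]
  rw [← h2] at h1
  exact (van_mk _ n).1 h1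

variable [IsCommMonObj J] [IsProper J.hom] [GeometricallyIntegral J.hom] {L : J.left.Modules} {r m v : ℕ}
  {E : J.left.Modules}

/-- **The higher cohomology of `G` on `T × J` vanishes for `T` affine.** -/
theorem van_G [CharZero k] {g : ℕ} (hg : topologicalKrullDim J.left = g) (hL : PicF.IsInvertible L)
    (hs : BunMod.K596.Sym J L) (hr : 1 ≤ r) (hE : BunMod.K596.VerD J L r m v E)
    (hv : ∀ i, 0 < i → Subsingleton (Coh.HH J.left (CohB1.tensorPow L (2 * (r * m))) i))
    {T : Over (Spec (CommRingCat.of k))} [IsAffine T.left] (f : T ⟶ J) (n : ℕ) (hn : 0 < n) :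
    Subsingleton (Coh.HH (T ⊗ J).left (pb (f ▷ J) (G J E)) n) := by
  have hC : PicF.IsInvertible (CohB1.tensorPow L (2 * (r * m))) := isInvertible_tensorPow hL _
  let T' := pullback f ((𝟙 J : J ⟶ J) ^ (2 * r))
  let q : T' ⟶ T := pullback.fst f ((𝟙 J : J ⟶ J) ^ (2 * r))
  let f' : T' ⟶ J := pullback.snd f ((𝟙 J : J ⟶ J) ^ (2 * r))
  have sq : IsPullback q f' f ((𝟙 J : J ⟶ J) ^ (2 * r)) := IsPullback.of_hasPullback _ _
  have sql := (sq.map (Over.forget _)).flip
  have hq : FF q.left ((2 * r) ^ (2 * g)) := FF.of_isPullback sql (ff_pow g hg (2 * r) (by omega))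
  have hqe : Etale q.left := MorphismProperty.of_isPullback (P := @Etale) sql
    (Groth.Agent.S4112.result k J (2 * r) (Nat.cast_ne_zero.mpr (by omega)))
  have i0 : IsFinite q.left := hq.1
  have i1 : IsAffine T'.left := isAffine_of_isAffineHom q.left
  let ψ : T' ⊗ J ⟶ T ⊗ J := q ▷ J ≫ T ◁ ((𝟙 J : J ⟶ J) ^ r)
  have h1 := ((K497.OrbClos.isPullback_whiskerRight J q).map (Over.forget _)).flip
  have h2 := ((K497.OrbClos.isPullback_whiskerLeft T ((𝟙 J : J ⟶ J) ^ r)).map (Over.forget _)).flip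
  obtain ⟨h3, h4, h5⟩ : FF ψ.left ((2 * r) ^ (2 * g) * r ^ (2 * g)) :=
    (FF.of_isPullback h1 hq).comp (FF.of_isPullback h2 (ff_pow g hg r hr))
  have h6 : Etale ψ.left := MorphismProperty.comp_mem _ _ _ (MorphismProperty.of_isPullback (P := @Etale) h1 hqe)
    (MorphismProperty.of_isPullback (P := @Etale) h2
      (Groth.Agent.S4112.result k J r (Nat.cast_ne_zero.mpr (by omega))))
  have h7 : ψ ≫ f ▷ J = f' ▷ J ≫ psi J (2 * r) r := by
    rw [psi_eq, Category.assoc, whisker_exchange, ← Category.assoc, ← comp_whiskerRight, sq.w, comp_whiskerRight,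
      Category.assoc]
  have hG : FlatMod.IsFinLocFree (pb (f ▷ J) (G J E)) := flf_pb _ (flf_G hE.locFree)
  have h8 : Add (pf ψ (pb ψ (pb (f ▷ J) (G J E)))) (pb (f ▷ J) (G J E)) :=
    Retr.add_push_pull ψ.left h5 (isUnit_natCast (T ⊗ J) (by positivity))
      (VarietyB.TensCoh.HasBases.of_isFinLocFree hG)
  refine subsingleton_HH h8 ?_
  rw [van_pf ψ (isQCoh_of_flf (flf_pb _ hG))]
  have h9 : Add (pb (f' ▷ J) (FC J (CohB1.tensorPow L (2 * (r * m))))) (pb ψ (pb (f ▷ J) (G J E))) :=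
    (add_pull (f' ▷ J).left (add_pull_G hL hs hE)).congr (Iso.refl _) (pbSq h7 (G J E)).symm
  exact subsingleton_HH h9 (van_FC f' hC hv n hn)

end K524.GVan
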