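import Groth.Agent.BunMod.K524.ItZero
import Groth.Agent.BunMod.K524.FlfPush

/-!
# `W` is finite locally free and globally generated
-/

set_option autoImplicit false
universe u
open CategoryTheory CategoryTheory.Limits MonoidalCategory CartesianMonoidalCategory AlgebraicGeometry
open scoped MonObj
open Groth.Agent Groth.Agent.Grpsch.PicGrp Groth.Agent.Grpsch.Cube K524.Kun K524.AddC K524.ModAdd K524.Psi K524.FamVan
open K524.WPush K524.GVan K524.ItZero
open Groth.Agent.VarietyB.TensCoh (HasBases)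
open Groth.Agent.Fdesc.LocGen (isInvertible_tensorPow isInvertible_tensorMod isInvertible_pullback)
open BunMod.K596

namespace K524.GgW

theorem isGG_of_iso {X : Scheme.{u}} {M N : X.Modules} (e : M ≅ N) (h : Curv2.IsGloballyGenerated M) :
    Curv2.IsGloballyGenerated N := by
  obtain ⟨I, p, hp⟩ := h
  exact ⟨I, p ≫ e.hom, epi_comp _ _⟩

variable {k : Type u} [Field k] {J : Over (Spec (CommRingCat.of k))} [GrpObj J]
variable [IsAlgClosed k] [CharZero k] {L : J.left.Modules} {g r m v : ℕ} {E : J.left.Modules}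

theorem flf_W (hJ : PPAV g J L) (hs : Sym J L) (hr : 1 ≤ r) (hE : VerD J L r m v E) :
    FlatMod.IsFinLocFree (W J E) := by
  have i1 := hJ.comm
  have i2 := hJ.proper
  have i3 := hJ.gint
  have hL := hJ.inv
  have hC : PicF.IsInvertible (CohB1.tensorPow L (2 * (r * m))) := isInvertible_tensorPow hL _
  obtain ⟨h1, h2, -⟩ := ff_pow (J := J) g hJ.dim (2 * r) (by omega)
  have i4 : IsLocallyNoetherian J.left := LocallyOfFiniteType.isLocallyNoetherian J.hom
  exact isFinLocFree (add_W hJ.dim hL hs hr hE)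
    (FlfPush.isFinLocFree_pushforward _ (Pic13.H940.AddL.isFinLocFree_of_isInvertible hC))

theorem gg_W (hJ : PPAV g J L) (hs : Sym J L) (hcrit : Criterion J) (hr : 1 ≤ r) (hm : 2 * r + 1 ≤ m)
    (hE : VerD J L r m v E) : Curv2.IsGloballyGenerated (W J E) := by
  obtain ⟨L', hL', ⟨e⟩⟩ := exists_inverse hJ.inv
  have h1 : FlatMod.IsFinLocFree (CohB1.tensorMod (W J E) L') :=
    Sga67.LocBasis.isFinLocFree_tensorMod (flf_W hJ hs hr hE) (Pic13.H940.AddL.isFinLocFree_of_isInvertible hL')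
  have h2 := hcrit _ h1 (it0_W hJ hs hr hm hE e) L hJ.ample
  refine isGG_of_iso ?_ h2
  exact Ega2.Tens.assoc _ _ _ ≪≫ Ega2.Tens.mapTIso (Iso.refl _) (Ega2.Tens.swap _ _ ≪≫ e) ≪≫ Ega2.Tens.runit _

end K524.GgW
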