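import Groth.Agent.BunMod.K524.WPush
import Groth.Agent.BunMod.K524.GVan
import Groth.Agent.AbVar.K512.PhiSurj
import Groth.Agent.AbVar.K506.TauInv
import Groth.Agent.AbVar.K511.AmpleVan
import Groth.Agent.AbVar.K524.PicInv
import Groth.Agent.Divis.NormAmple

/-!
# `W ⊗ L⁻¹` has index `0`; `W` is globally generated
-/

set_option autoImplicit false
universe u
open CategoryTheory CategoryTheory.Limits MonoidalCategory CartesianMonoidalCategory AlgebraicGeometry
open scoped MonObj
open Groth.Agent Groth.Agent.Grpsch.PicGrp Groth.Agent.Grpsch.Cube K524.Kun K524.AddC K524.ModAdd K524.Psi K524.FamVan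
open K524.WPush K524.GVan
open K506.Transl (tr Inv)
open Groth.Agent.VarietyB.TensCoh (HasBases)
open Groth.Agent.Fdesc.LocGen (isInvertible_tensorPow isInvertible_tensorMod isInvertible_pullback)

namespace K524.ItZero

variable {k : Type u} [Field k] {J : Over (Spec (CommRingCat.of k))} [GrpObj J]

theorem isIso_tr_left (x : 𝟙_ (Over (Spec (CommRingCat.of k))) ⟶ J) : IsIso (tr x).left := by
  have : IsIso (tr x) := ⟨tr x⁻¹, by rw [K518.Phi.tr_comp_tr, mul_inv_cancel, K518.Phi.tr_one],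
    by rw [K518.Phi.tr_comp_tr, inv_mul_cancel, K518.Phi.tr_one]⟩
  exact inferInstanceAs (IsIso ((Over.forget _).map (tr x)))

/-- `[n]^*` of a translation invariant class is translation invariant. -/
theorem inv_pow {β : Pic J.left} (hβ : Inv β) (n : ℕ) [IsMonHom ((𝟙 J : J ⟶ J) ^ n)] :
    Inv (pl ((𝟙 J : J ⟶ J) ^ n) β) := by
  intro x
  rw [← pl_comp, K518.Phi.tr_comp, pl_comp, hβ]

/-- `B ⊗ β` has no higher cohomology for `B` ample and `β` translation invariant. -/
theorem van_ample_inv [IsAlgClosed k] [IsProper J.hom] [GeometricallyIntegral J.hom] {B : J.left.Modules} (hB : CohB1.IsAmple B) {β : Pic J.left}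
    (hβ : Inv β) (i : ℕ) (hi : 0 < i) : Van (mk B hB.1 * β) i := by
  obtain ⟨x, hx⟩ := K512.PhiSurj.exists_eq_of_isAmple B hB β hβ
  have h1 : mk B hB.1 * β = pl (tr x) (mk B hB.1) := by
    rw [← hx, mul_comm, inv_mul_cancel_right]
  rw [h1]
  have := isIso_tr_left x
  refine (van_pull_iso (tr x).left (mk B hB.1) i).2 ?_
  rw [van_mk]
  exact K511.AmpleVan.vanish J B hB i hi

section Main

variable [IsAlgClosed k] [CharZero k] {L : J.left.Modules} {g r m v : ℕ} {E : J.left.Modules}

open BunMod.K596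

/-- `W ⊗ L⁻¹` has index `0`. -/
theorem it0_W (hJ : PPAV g J L) (hs : Sym J L) (hr : 1 ≤ r) (hm : 2 * r + 1 ≤ m) (hE : VerD J L r m v E)
    {L' : J.left.Modules} (e : CohB1.tensorMod L L' ≅ Coh.structureModule J.left) :
    IT0 J (CohB1.tensorMod (W J E) L') := by
  have i1 := hJ.comm
  have i2 := hJ.proper
  have i3 := hJ.gint
  have hL := hJ.inv
  have hL' : PicF.IsInvertible L' := K524.PicInv.isInvertible_of_inv hL e
  intro α hα hα0 i hi
  have hαi : Inv (mk α hα) := K506.TauInv.inv_of_isAlgEquivZero hα hα0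
  let C := CohB1.tensorPow L (2 * (r * m))
  have hC : PicF.IsInvertible C := isInvertible_tensorPow hL _
  let n := (𝟙 J : J ⟶ J) ^ (2 * r)
  have i4 : IsMonHom n := by
    have := K524.Quad.isMonHom_zpow (𝟙 J : J ⟶ J) ((2 * r : ℕ) : ℤ)
    rwa [zpow_natCast] at this
  have i5 : IsFinite n.left := Grpsch.MulFin.isFinite_pow J (2 * r) (by omega)
  have h1 : Add (pf n C) (W J E) := add_W hJ.dim hL hs hr hE
  have h2 := add_tens_left (add_tens_left h1 L') α
  refine subsingleton_HH h2 ?_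
  have hM : PicF.IsInvertible (CohB1.tensorMod L' α) := isInvertible_tensorMod hL' hα
  have hM1 : HasBases (CohB1.tensorMod L' α) :=
    VarietyB.TensCoh.HasBases.of_isFinLocFree (Pic13.H940.AddL.isFinLocFree_of_isInvertible hM)
  have e1 : CohB1.tensorMod (CohB1.tensorMod (pf n C) L') α ≅
      pf n (CohB1.tensorMod (pb n (CohB1.tensorMod L' α)) C) :=
    Ega2.Tens.assoc _ _ _ ≪≫ Ega2.Tens.swap _ _ ≪≫ VarietyB.ProjForm.projIso n.left hM1 C
  have hN : PicF.IsInvertible (CohB1.tensorMod (pb n (CohB1.tensorMod L' α)) C) :=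
    isInvertible_tensorMod (isInvertible_pullback _ hM) hC
  refine Fga.HShift.subsingleton_of_iso e1.symm i ?_
  rw [van_pf n (isQCoh_of_isInvertible hN), ← van_mk hN]
  have h3 : CohB1.IsAmple (CohB1.tensorPow L (2 * r * (m - 2 * r))) :=
    Divis.NormAmple.isAmple_tensorPow hJ.ample (Nat.mul_pos (by omega) (by omega))
  have h4 : mk (CohB1.tensorMod (pb n (CohB1.tensorMod L' α)) C) hN =
      mk _ h3.1 * pl n (mk α hα) := by
    have h5 : pl n (mk L hL) = mk L hL ^ ((2 * r) ^ 2) := by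
      have := Grpsch.Cube.pl_pow_of_symm (mk L hL) (𝟙 J) (Paral.sym_mk hL hs) (2 * r)
      rwa [K518.Phi.pl_id] at this
    have h6 : mk (CohB1.tensorMod (pb n (CohB1.tensorMod L' α)) C) hN =
        pl n ((mk L hL)⁻¹ * mk α hα) * mk L hL ^ (2 * (r * m)) := by
      rw [← mk_mul_mk (isInvertible_pullback _ hM) hC, ← pull_mk _ hM, ← mk_mul_mk hL' hα,
        K524.PicInv.mk_inv_of hL hL' e, mk_tensorPow hL]
    rw [h6, map_mul, map_inv, h5, mk_tensorPow hL]
    have h7 : 2 * (r * m) = 2 * r * (m - 2 * r) + (2 * r) ^ 2 := by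
      obtain ⟨t, rfl⟩ := Nat.exists_eq_add_of_le (by omega : 2 * r ≤ m)
      rw [Nat.add_sub_cancel_left]
      ring
    rw [h7, pow_add]
    apply Additive.ofMul.injective
    simp only [ofMul_mul, ofMul_inv]
    abel
  rw [h4]
  exact van_ample_inv h3 (inv_pow hαi (2 * r)) i hi

end Main

end K524.ItZero
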