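import Groth.Agent.BunMod.K524.AddC
import Groth.Agent.Fga.HShift
import Groth.Agent.CohqB.SerTw
import Groth.Agent.Dcoh.Spread
import Groth.Agent.Pic13.H940.AddL

/-!
# `Add` for modules: pullback, pushforward, tensor products, cohomology, local freeness
-/

set_option autoImplicit false
universe u
open CategoryTheory CategoryTheory.Limits AlgebraicGeometry TopologicalSpace Opposite

namespace K524.ModAdd

open Groth.Agent K524.AddC

variable {X Y : Scheme.{u}}

theorem add_pull (f : X ⟶ Y) {Q M : Y.Modules} (h : Add Q M) :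
    Add ((Scheme.Modules.pullback f).obj Q) ((Scheme.Modules.pullback f).obj M) := h.map _

theorem add_push (f : X ⟶ Y) {Q M : X.Modules} (h : Add Q M) :
    Add ((Scheme.Modules.pushforward f).obj Q) ((Scheme.Modules.pushforward f).obj M) := h.map _

theorem add_tens_left {Q M : X.Modules} (h : Add Q M) (N : X.Modules) :
    Add (CohB1.tensorMod Q N) (CohB1.tensorMod M N) := h.map (CohqB.SerTw.tw N)

theorem add_tens_right {Q M : X.Modules} (h : Add Q M) (N : X.Modules) :
    Add (CohB1.tensorMod N Q) (CohB1.tensorMod N M) :=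
  (add_tens_left h N).congr (Ega2.Tens.swap _ _) (Ega2.Tens.swap _ _)

theorem add_tens {Q M Q' M' : X.Modules} (h : Add Q M) (h' : Add Q' M') :
    Add (CohB1.tensorMod Q Q') (CohB1.tensorMod M M') :=
  (add_tens_left h Q').trans (add_tens_right h' M)

theorem subsingleton_HH {Q M : X.Modules} (h : Add Q M) {i : ℕ} (hQ : Subsingleton (Coh.HH X Q i)) :
    Subsingleton (Coh.HH X M i) :=
  (Fga.HShift.isZero_HHF_iff i M).1 ((h.map (Fga.HShift.HHF X i)).isZero ((Fga.HShift.isZero_HHF_iff i Q).2 hQ))

attribute [local instance] Abelian.hasFiniteBiproducts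

theorem isFinLocFree {Q M : X.Modules} (h : Add Q M) (hQ : FlatMod.IsFinLocFree Q) : FlatMod.IsFinLocFree M := by
  obtain ⟨n, i, r, hir⟩ := h.exists_biproduct
  exact Dcoh.Spread.isFinLocFree_of_retract i r hir (Pic13.H940.AddL.isFinLocFree_biproduct _ fun _ => hQ)

end K524.ModAdd
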