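import Groth.Agent.AbVar.K518.Phi
import Groth.Agent.AbVar.K524.Quad
import Groth.Agent.BunMod.K596.Iface

/-!
# The parallelogram law for a symmetric class
-/

set_option autoImplicit false
universe u

open CategoryTheory CategoryTheory.Limits MonoidalCategory CartesianMonoidalCategory AlgebraicGeometry
open scoped MonObj
open Groth.Agent Groth.Agent.Grpsch.PicGrp Groth.Agent.Grpsch.Cube
open Groth.Agent.Fdesc.LocGen (isInvertible_tensorPow isInvertible_tensorMod isInvertible_pullback)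
open K518.Phi (D)

namespace K524.Paral

variable {k : Type u} [Field k] {X T : Over (Spec (CommRingCat.of k))} [GrpObj X] [IsProper X.hom]
    [GeometricallyIntegral X.hom]

theorem D_self_of_symm {c : Pic X.left} (hc : pl (𝟙 X)⁻¹ c = c) (f : T ⟶ X) : D c f f = pl f c ^ 2 := by
  rw [K524.Quad.D_self, K524.Quad.del, hc, mul_inv_cancel, map_one, mul_one]

/-- `(x + y)^* c + (x - y)^* c = 2 x^* c + 2 y^* c`, with `x + y`, `x` in place of `x`, `y`. -/
theorem paral {c : Pic X.left} (hc : pl (𝟙 X)⁻¹ c = c) (x y : T ⟶ X) :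
    pl (x ^ 2 * y) c * pl y c = pl x c ^ 2 * pl (x * y) c ^ 2 := by
  have h1 : pl (x ^ 2) c = pl x c ^ 4 := by
    rw [pow_two, K518.Phi.pl_mul, D_self_of_symm hc]
    apply Additive.ofMul.injective
    simp only [ofMul_mul, ofMul_pow]
    module
  rw [K518.Phi.pl_mul, K518.Phi.pl_mul, h1, K518.Phi.D_pow_left]
  apply Additive.ofMul.injective
  simp only [ofMul_mul, ofMul_pow]
  module

theorem sym_mk {J : Over (Spec (CommRingCat.of k))} [GrpObj J] {L : J.left.Modules} (hL : PicF.IsInvertible L)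
    (hs : BunMod.K596.Sym J L) : pl (𝟙 J)⁻¹ (mk L hL) = mk L hL := by
  have h1 : (𝟙 J : J ⟶ J)⁻¹ = ι[J] := by
    rw [GrpObj.inv_eq_inv]
  rw [h1, pull_mk, mk_eq_iff]
  exact hs

variable {J : Over (Spec (CommRingCat.of k))} [GrpObj J] [IsProper J.hom] [GeometricallyIntegral J.hom]

/-- `x, y ↦ 2 x + y`. -/
noncomputable abbrev amap (J : Over (Spec (CommRingCat.of k))) [GrpObj J] : J ⊗ J ⟶ J := (fst J J) ^ 2 * snd J J

theorem nonempty_iso {L : J.left.Modules} (hL : PicF.IsInvertible L) (hs : BunMod.K596.Sym J L) (n : ℕ) :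
    Nonempty (CohB1.tensorMod ((Scheme.Modules.pullback (amap J).left).obj (CohB1.tensorPow L n))
        ((Scheme.Modules.pullback (snd J J).left).obj (CohB1.tensorPow L n)) ≅
      CohB1.tensorMod ((Scheme.Modules.pullback (fst J J).left).obj (CohB1.tensorPow L (2 * n)))
        ((Scheme.Modules.pullback (μ[J]).left).obj (CohB1.tensorPow L (2 * n)))) := by
  have h0 : ∀ m, PicF.IsInvertible (CohB1.tensorPow L m) := fun m => isInvertible_tensorPow hL m
  rw [← mk_eq_iff (isInvertible_tensorMod (isInvertible_pullback _ (h0 n)) (isInvertible_pullback _ (h0 n)))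
    (isInvertible_tensorMod (isInvertible_pullback _ (h0 _)) (isInvertible_pullback _ (h0 _))),
    ← mk_mul_mk (isInvertible_pullback _ (h0 n)) (isInvertible_pullback _ (h0 n)),
    ← mk_mul_mk (isInvertible_pullback _ (h0 _)) (isInvertible_pullback _ (h0 _)),
    ← pull_mk _ (h0 n), ← pull_mk _ (h0 n), ← pull_mk _ (h0 _), ← pull_mk _ (h0 _), mk_tensorPow hL, mk_tensorPow hL]
  have hc : pl (𝟙 J)⁻¹ (mk L hL ^ n) = mk L hL ^ n := by rw [map_pow, sym_mk hL hs]
  have h2 := paral hc (fst J J) (snd J J)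
  have h3 : fst J J * snd J J = μ[J] := by
    rw [MonObj.mul_eq_mul]
  rw [h3] at h2
  have h4 : mk L hL ^ (2 * n) = (mk L hL ^ n) ^ 2 := by rw [mul_comm, pow_mul]
  rw [h4, map_pow _ (_ ^ n), map_pow _ (_ ^ n)]
  exact h2

end K524.Paral
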