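import Groth.Agent.BunMod.K524.AddC
import Groth.Agent.BunMod.K524.FlatPush
import Groth.Agent.CurvesB.HZero
import Groth.Agent.S0002
import Mathlib.LinearAlgebra.Basis.VectorSpace

/-!
# Finite bases of `H⁰(Y, M)` over `Γ(Spec k)` and `p₁_* p₂^* M ∈ Add(O)`
-/

set_option autoImplicit false
universe u
open CategoryTheory CategoryTheory.Limits AlgebraicGeometry TopologicalSpace Opposite TensorProduct

namespace K524.PushO

open Groth.Agent Groth.Agent.VarietyB Groth.Agent.VarietyB.FlatH0 Groth.Agent.VarietyB.TensLoc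
open Groth.Agent.VarietyB.PullLoc Groth.Agent.CurvesB K524.AddC K524.FlatPush

variable {k : Type u} [Field k]

/-- A coherent module on a proper `k`-scheme has a finite basis of global sections over `Γ(Spec k, ⊤)`. -/
theorem exists_basis {Y : Scheme.{u}} (y : Y ⟶ Spec (CommRingCat.of k)) [IsProper y] {M : Y.Modules}
    (hM : Coh.IsCoh M) :
    ∃ n : ℕ, Nonempty (letI := modOver y M (US := ⊤) (UX := ⊤) le_top
      Module.Basis (Fin n) Γ(Spec (CommRingCat.of k), ⊤) Γ(M, ⊤)) := by
  let o : Y.Over (Spec (CommRingCat.of k)) := ⟨y⟩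
  have hf : IsProper (Y ↘ Spec (CommRingCat.of k)) := ‹IsProper y›
  have h1 : Module.Finite k (Coh.HH Y M 0) := S0002.result k Y M hM 0
  let m2 := HZero.moduleΓ (X := Y) k M
  have h2 : Module.Finite k Γ(M, ⊤) := Module.Finite.equiv (HZero.equivLin k M)
  let b₀ := Module.finBasis k Γ(M, ⊤)
  let i := modOver y M (US := ⊤) (UX := ⊤) le_top
  let φ : k ≃+* Γ(Spec (CommRingCat.of k), ⊤) :=
    (Scheme.ΓSpecIso (CommRingCat.of k)).symm.commRingCatIsoToRingEquiv
  refine ⟨_, ⟨b₀.mapCoeffs φ ?_⟩⟩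
  intro c x
  have h3 : y.appLE ⊤ ⊤ le_top = y.appTop := Scheme.Hom.appLE_eq_app _
  change (y.appLE ⊤ ⊤ le_top).hom ((Scheme.ΓSpecIso (CommRingCat.of k)).inv c) • x = _
  rw [h3]
  rfl

attribute [local instance] Abelian.hasFiniteBiproducts

/-- A module with a global basis is in `Add(O)`. -/
theorem add_of_isBasis {X : Scheme.{u}} {N : X.Modules} {n : ℕ} {s : Fin n → Γ(N, ⊤)} (hs : IsBasis N ⊤ s) :
    Add (Coh.structureModule X) N := by
  obtain ⟨e, he⟩ := exists_isBasis_freeMod X n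
  have h1 : Add (Coh.structureModule X) (FlatMod.freeMod X n) := Add.coprod _ n
  refine h1.congr (Iso.refl _) ⟨homOfBasis N he s, homOfBasis _ hs e, ?_, ?_⟩
  · refine hom_ext_basis he _ _ fun i => ?_
    change (homOfBasis _ hs e).app ⊤ ((homOfBasis N he s).app ⊤ (e i)) = e i
    rw [homOfBasis_app_basis, homOfBasis_app_basis]
  · refine hom_ext_basis hs _ _ fun i => ?_
    change (homOfBasis N he s).app ⊤ ((homOfBasis _ hs e).app ⊤ (s i)) = s i
    rw [homOfBasis_app_basis, homOfBasis_app_basis]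

/-- **`p₁_* p₂^* M ∈ Add(O)`** for `M` coherent on `Y` proper over a field. -/
theorem add_push_snd {X Y P : Scheme.{u}} {x : X ⟶ Spec (CommRingCat.of k)} {y : Y ⟶ Spec (CommRingCat.of k)}
    {p₁ : P ⟶ X} {p₂ : P ⟶ Y} (H : IsPullback p₂ p₁ y x) [IsProper y] {M : Y.Modules} (hM : Coh.IsCoh M) :
    Add (Coh.structureModule X) ((Scheme.Modules.pushforward p₁).obj ((Scheme.Modules.pullback p₂).obj M)) := by
  obtain ⟨n, ⟨b⟩⟩ := exists_basis y hM
  have : CompactSpace Y := QuasiCompact.compactSpace_of_compactSpace y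
  have : QuasiSeparatedSpace Y := quasiSeparatedSpace_of_quasiSeparated y
  exact add_of_isBasis (isBasis_psec H M hM.1 b)

end K524.PushO
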