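import Groth.Agent.BunMod.K524.GVan
import Groth.Agent.BunMod.K524.GgW
import Groth.Agent.CanPar.K795.FibreRank
import Groth.Agent.CurvesC.GGSec
import Groth.Agent.Fga.SecComp
import Groth.Agent.Ega3B.AcyclicBC

/-!
# Restriction of sections of `G = μ^* E ⊗ p₂^* E` to `{0} × J` is surjective
-/

set_option autoImplicit false
universe u
open CategoryTheory CategoryTheory.Limits MonoidalCategory CartesianMonoidalCategory AlgebraicGeometry
open TopologicalSpace TensorProduct
open scoped MonObj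
open Groth.Agent Groth.Agent.Grpsch.PicGrp Groth.Agent.Grpsch.Cube K524.Kun K524.AddC K524.ModAdd K524.Psi K524.FamVan
open K524.WPush K524.GVan
open Groth.Agent.VarietyB.TensCoh (HasBases)
open Groth.Agent.VarietyB.FlatH0 Groth.Agent.VarietyB.BCAlg Groth.Agent.VarietyB.PullSec

namespace K524.Restr

theorem range_fst_of_isPullback {P X Y Z : Scheme.{u}} {a : P ⟶ X} {b : P ⟶ Y} {f : X ⟶ Z} {g : Y ⟶ Z}
    (h : IsPullback a b f g) : Set.range a = f ⁻¹' Set.range g := by
  rw [← h.isoPullback_hom_fst, ← Scheme.Pullback.range_fst]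
  ext x
  constructor
  · rintro ⟨y, rfl⟩
    exact ⟨h.isoPullback.hom y, by rw [Scheme.Hom.comp_apply]⟩
  · rintro ⟨y, rfl⟩
    obtain ⟨z, rfl⟩ := h.isoPullback.hom.surjective y
    exact ⟨z, by rw [Scheme.Hom.comp_apply]⟩

variable {k : Type u} [Field k]

/-- `y ↦ (z, y)`. -/
noncomputable abbrev eT {T : Over (Spec (CommRingCat.of k))} (J : Over (Spec (CommRingCat.of k)))
    (z : 𝟙_ (Over (Spec (CommRingCat.of k))) ⟶ T) : J ⟶ T ⊗ J := lift (toUnit J ≫ z) (𝟙 J)

theorem isPullback_eT {C : Type*} [Category C] [CartesianMonoidalCategory C] {T : C} (J : C) (z : 𝟙_ C ⟶ T) :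
    IsPullback (lift (toUnit J ≫ z) (𝟙 J)) (toUnit J) (fst T J) z where
  w := by simp
  isLimit' := ⟨PullbackCone.IsLimit.mk _ (fun s => s.fst ≫ snd T J)
    (fun s => by
      apply CartesianMonoidalCategory.hom_ext
      · simp only [Category.assoc, lift_fst]
        rw [s.condition, ← Category.assoc, ← Category.assoc]
        congr 1
        exact toUnit_unique _ _
      · simp)
    (fun s => toUnit_unique _ _)
    (fun s m h1 h2 => by
      rw [← h1]
      simp)⟩

theorem surjective_appLE_section {T : Over (Spec (CommRingCat.of k))}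
    (z : 𝟙_ (Over (Spec (CommRingCat.of k))) ⟶ T) :
    Function.Surjective (z.left.appLE ⊤ ⊤ le_top) := by
  have h1 : z.left ≫ T.hom = 𝟙 (Spec (CommRingCat.of k)) := Over.w z
  have h2 : T.hom.appTop ≫ z.left.appTop = 𝟙 _ := by
    rw [← Scheme.Hom.comp_appTop, h1, Scheme.Hom.id_appTop]
  intro c
  refine ⟨T.hom.appTop c, ?_⟩
  have h3 : z.left.appLE ⊤ ⊤ le_top = z.left.appTop := Scheme.Hom.appLE_eq_app _
  rw [h3]
  exact congr($h2 c)

theorem sec_surj_of_van {T J : Over (Spec (CommRingCat.of k))} [IsAffine T.left] [QuasiCompact J.hom] [IsSeparated J.hom]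
    (z : 𝟙_ (Over (Spec (CommRingCat.of k))) ⟶ T) {F : (T ⊗ J).left.Modules} (hF : FlatMod.IsFinLocFree F)
    (hv : ∀ p, Subsingleton (Coh.HH (T ⊗ J).left F (p + 1)))
    (t : Γ((Scheme.Modules.pullback (eT J z).left).obj F, ⊤)) :
    ∃ s : Γ(F, ⊤), sec (eT J z).left F (le_top : (⊤ : J.left.Opens) ≤ (eT J z).left ⁻¹ᵁ ⊤) s = t := by
  have H : IsPullback (eT J z).left (toUnit J).left (fst T J).left z.left :=
    (isPullback_eT J z).map (Over.forget _)
  have H0 := isPullback_tensor T J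
  have i1 : QuasiCompact (fst T J).left := MorphismProperty.of_isPullback H0.flip ‹QuasiCompact J.hom›
  have i2 : IsSeparated (fst T J).left := MorphismProperty.of_isPullback H0.flip ‹IsSeparated J.hom›
  have i3 : Flat (fst T J).left := MorphismProperty.of_isPullback H0.flip (inferInstanceAs (Flat J.hom))
  have i4 : IsAffine (𝟙_ (Over (Spec (CommRingCat.of k)))).left :=
    inferInstanceAs (IsAffine (Spec (CommRingCat.of k)))
  obtain ⟨-, hbc, -⟩ := Ega3B.AcyclicBC.acyclicBC H F (isQCoh_of_flf hF)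
    (K795.FibreRank.isFlatOver_of_isFinLocFree _ hF) hv
  let j1 := modOver (fst T J).left F (US := ⊤) (UX := ⊤) le_top
  let j2 := algOver z.left (US := ⊤) (UT := ⊤) le_top
  let j3 := modOver (toUnit J).left ((Scheme.Modules.pullback (eT J z).left).obj F) (US := ⊤) (UX := ⊤) le_top
  have hs : Function.Surjective (algebraMap Γ(T.left, ⊤) Γ((𝟙_ (Over (Spec (CommRingCat.of k)))).left, ⊤)) :=
    surjective_appLE_section z
  obtain ⟨x, hx⟩ := hbc.2 t
  obtain ⟨m', rfl⟩ := TensorProduct.mk_surjective _ Γ(F, ⊤) _ hs x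
  refine ⟨m', ?_⟩
  rw [TensorProduct.mk_apply, bc_tmul, one_smul] at hx
  exact hx

end K524.Restr
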