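import Groth.Agent.BunMod.K524.Restr

/-!
# Restriction of global sections of `G` to `{0} × J` is surjective when `W = p₁_* G` is globally generated
-/

set_option autoImplicit false
universe u
open CategoryTheory CategoryTheory.Limits MonoidalCategory CartesianMonoidalCategory AlgebraicGeometry
open TopologicalSpace TensorProduct
open scoped MonObj
open Groth.Agent Groth.Agent.Grpsch.PicGrp Groth.Agent.Grpsch.Cube K524.Kun K524.AddC K524.ModAdd K524.Psi K524.FamVan
open K524.WPush K524.GVan K524.Restr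
open Groth.Agent.VarietyB.TensCoh (HasBases)
open Groth.Agent.VarietyB.FlatH0 Groth.Agent.VarietyB.BCAlg Groth.Agent.VarietyB.PullSec
open Groth.Agent.Fdesc.LocGen (res)

namespace K524.Restr2

variable {k : Type u} [Field k] {J : Over (Spec (CommRingCat.of k))} [GrpObj J]

/-- `y ↦ (0, y)`. -/
noncomputable abbrev e0 (J : Over (Spec (CommRingCat.of k))) [GrpObj J] : J ⟶ J ⊗ J := eT J η[J]

theorem restr_surj [QuasiCompact J.hom] [IsSeparated J.hom] {G : (J ⊗ J).left.Modules}
    (hG : FlatMod.IsFinLocFree G)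
    (hW : Coh.IsQCoh ((Scheme.Modules.pushforward (fst J J).left).obj G))
    (hgg : Curv2.IsGloballyGenerated ((Scheme.Modules.pushforward (fst J J).left).obj G))
    (hv : ∀ {T : Over (Spec (CommRingCat.of k))} [IsAffine T.left] (f : T ⟶ J) (n : ℕ), 0 < n →
      Subsingleton (Coh.HH (T ⊗ J).left (pb (f ▷ J) G) n))
    (t : Γ((Scheme.Modules.pullback (e0 J).left).obj G, ⊤)) :
    ∃ w : Γ(G, ⊤), sec (e0 J).left G (le_top : (⊤ : J.left.Opens) ≤ (e0 J).left ⁻¹ᵁ ⊤) w = t := by
  -- an affine neighbourhood of the origin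
  let o : J.left := η[J].left (IsLocalRing.closedPoint k)
  obtain ⟨U, hU, hoU, -⟩ := exists_isAffineOpen_mem_and_subset (x := o) (U := ⊤) trivial
  let T : Over (Spec (CommRingCat.of k)) := Over.mk (U.ι ≫ J.hom)
  let f : T ⟶ J := Over.homMk U.ι rfl
  have hTa : IsAffine T.left := hU
  have hrange : Set.range η[J].left ⊆ Set.range U.ι := by
    rintro _ ⟨y, rfl⟩
    have hy : y = IsLocalRing.closedPoint k := Subsingleton.elim (α := PrimeSpectrum k) _ _
    rw [hy, Scheme.Opens.range_ι]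
    exact hoU
  let z : 𝟙_ (Over (Spec (CommRingCat.of k))) ⟶ T :=
    Over.homMk (IsOpenImmersion.lift U.ι η[J].left hrange) (by
      change IsOpenImmersion.lift U.ι η[J].left hrange ≫ U.ι ≫ J.hom = _
      rw [IsOpenImmersion.lift_fac_assoc]
      exact Over.w η[J])
  have hz : z ≫ f = η[J] := by
    apply Over.OverMorphism.ext
    exact IsOpenImmersion.lift_fac U.ι η[J].left hrange
  let j := (f ▷ J).left
  have Hj : IsPullback j (fst T J).left (fst J J).left U.ι :=
    (K497.OrbClos.isPullback_whiskerRight J f).map (Over.forget _)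
  have ij : IsOpenImmersion j := MorphismProperty.of_isPullback Hj.flip inferInstance
  let p₁ := (fst J J).left
  have hjr : (p₁ ⁻¹ᵁ U : Set (J ⊗ J).left) ⊆ Set.range j := by
    rw [range_fst_of_isPullback Hj, Scheme.Opens.range_ι]
    exact subset_rfl
  have hle : (⊤ : (T ⊗ J).left.Opens) ≤ j ⁻¹ᵁ (p₁ ⁻¹ᵁ U) := by
    intro y _
    have h1 : j y ∈ Set.range j := ⟨y, rfl⟩
    rw [range_fst_of_isPullback Hj, Scheme.Opens.range_ι] at h1
    exact h1
  have hj2 : Function.Bijective (sec j G hle) := by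
    refine Fga.SecComp.sec_bijective_of_isOpenImmersion j G hle ?_
    intro x hx
    obtain ⟨y, hy⟩ := hjr hx
    exact ⟨y, trivial, hy⟩
  have hcomp : (eT J z) ≫ (f ▷ J) = e0 J := by
    apply CartesianMonoidalCategory.hom_ext
    · simp [hz]
    · simp
  have hcompl : (eT J z).left ≫ j = (e0 J).left := by rw [← hcomp, Over.comp_left]
  have hle0 : (⊤ : J.left.Opens) ≤ (e0 J).left ⁻¹ᵁ (p₁ ⁻¹ᵁ U) := by
    rw [← hcompl]
    exact le_top.trans ((eT J z).left.preimage_mono hle)
  -- the composite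
  let θ := (Scheme.Modules.pullbackComp (eT J z).left j).app G ≪≫ (Scheme.Modules.pullbackCongr hcompl).app G
  obtain ⟨s', hs'⟩ := sec_surj_of_van z (F := pb (f ▷ J) G) (flf_pb _ hG) (fun p => hv f (p + 1) p.succ_pos)
    (θ.inv.app ⊤ t)
  obtain ⟨s, rfl⟩ := hj2.2 s'
  have h1 : sec (e0 J).left G hle0 s = t := by
    have h2 : θ.hom.app ⊤ (θ.inv.app ⊤ t) = t := Groth.Agent.Ega2.TensPow.app_symm_app θ t
    rw [← h2, ← hs']
    change _ = ((Scheme.Modules.pullbackCongr hcompl).hom.app G).app ⊤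
      (((Scheme.Modules.pullbackComp (eT J z).left j).hom.app G).app ⊤ _)
    have h3 := Fga.SecComp.sec_comp (eT J z).left j G hle (le_top : (⊤ : J.left.Opens) ≤ (eT J z).left ⁻¹ᵁ ⊤)
      (le_top.trans ((eT J z).left.preimage_mono hle)) s
    refine Eq.trans ?_ (congrArg _ h3.symm)
    exact (Fga.SecComp.sec_congr hcompl G _ _ s).symm
  -- `s` is a combination of global sections
  obtain ⟨ι', e, he⟩ := CurvesC.GGSec.exists_sections_of_isGloballyGenerated hgg
  have hspan := CurvesC.GGSec.spanOn_eq_top hW he hU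
  have key : ∀ x ∈ CurvesC.GGSec.spanOn ((Scheme.Modules.pushforward (fst J J).left).obj G) e U,
      ∃ w : Γ(G, ⊤), sec (e0 J).left G (le_top : (⊤ : J.left.Opens) ≤ (e0 J).left ⁻¹ᵁ ⊤) w =
        sec (e0 J).left G hle0 (show Γ(G, p₁ ⁻¹ᵁ U) from x) := by
    intro x hx
    induction hx using Submodule.span_induction with
    | mem x hx =>
      obtain ⟨i, rfl⟩ := hx
      refine ⟨e i, ?_⟩
      have h2 := sec_res (e0 J).left G (le_top : (⊤ : J.left.Opens) ≤ (e0 J).left ⁻¹ᵁ ⊤) hle0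
        (le_top : p₁ ⁻¹ᵁ U ≤ ⊤) (le_refl (⊤ : J.left.Opens)) (e i)
      have h3 : ((Scheme.Modules.pullback (e0 J).left).obj G).presheaf.map (homOfLE (le_refl (⊤ : J.left.Opens))).op
          (sec (e0 J).left G (le_top : (⊤ : J.left.Opens) ≤ (e0 J).left ⁻¹ᵁ ⊤) (e i)) =
          sec (e0 J).left G (le_top : (⊤ : J.left.Opens) ≤ (e0 J).left ⁻¹ᵁ ⊤) (e i) :=
        Groth.Agent.Fdesc.LocGen.res_refl _ _
      exact h3.symm.trans h2
    | zero => exact ⟨0, by rw [map_zero]; exact (map_zero _).symm⟩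
    | add x y _ _ hx hy =>
      obtain ⟨a, ha⟩ := hx
      obtain ⟨b, hb⟩ := hy
      exact ⟨a + b, by rw [map_add, ha, hb]; exact (map_add _ _ _).symm⟩
    | smul a x _ hx =>
      obtain ⟨w, hw⟩ := hx
      have hη : (⊤ : (𝟙_ (Over (Spec (CommRingCat.of k)))).left.Opens) ≤ η[J].left ⁻¹ᵁ U := by
        intro y _
        have h2 : η[J].left y ∈ Set.range U.ι := hrange ⟨y, rfl⟩
        rwa [Scheme.Opens.range_ι] at h2
      let c := η[J].left.appLE U ⊤ hη a
      let d := (J ⊗ J).hom.appLE ⊤ ⊤ le_top c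
      refine ⟨d • w, ?_⟩
      have h2 := sec_smul (e0 J).left G hle0 (p₁.app U a) (show Γ(G, p₁ ⁻¹ᵁ U) from x)
      refine Eq.trans ?_ h2.symm
      rw [sec_smul, hw]
      congr 1
      have h4 : (e0 J).left ≫ p₁ = ((e0 J).left ≫ (J ⊗ J).hom) ≫ η[J].left := by
        have h5 : e0 J ≫ fst J J = toUnit J ≫ η[J] := by simp
        have h6 : (e0 J).left ≫ (J ⊗ J).hom = (toUnit J).left := by
          rw [Over.w (e0 J)]
          have h7 := Over.w (toUnit J)
          exact h7.symm.trans (Category.comp_id _)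
        have h8 := congrArg Over.Hom.left h5
        rw [Over.comp_left, Over.comp_left] at h8
        rw [h6]
        exact h8
      have h5 : p₁.appLE U (p₁ ⁻¹ᵁ U) le_rfl = p₁.app U := Scheme.Hom.appLE_eq_app _
      have h6 : p₁.appLE U (p₁ ⁻¹ᵁ U) le_rfl ≫ (e0 J).left.appLE (p₁ ⁻¹ᵁ U) ⊤ hle0 =
          η[J].left.appLE U ⊤ hη ≫ (J ⊗ J).hom.appLE ⊤ ⊤ le_top ≫ (e0 J).left.appLE ⊤ ⊤ le_top := by
        rw [Scheme.Hom.appLE_comp_appLE, Scheme.Hom.appLE_comp_appLE, Scheme.Hom.appLE_comp_appLE]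
        simp only [h4]
      have h7 := congr($h6 a)
      rw [h5] at h7
      exact h7.symm
  obtain ⟨w, hw⟩ := key s (by rw [hspan]; trivial)
  exact ⟨w, hw.trans h1⟩

end K524.Restr2
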