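import Groth.Agent.BunMod.K524.AddC
import Groth.Agent.AbVar.K511.TrSplit
import Groth.Agent.LoccohB.SectLin303

/-!
# `E` is a retract of `f_* f^* E` for `f` finite étale of constant invertible degree and `E` locally free
-/

set_option autoImplicit false
universe u
open CategoryTheory CategoryTheory.Limits AlgebraicGeometry TopologicalSpace Opposite

namespace K524.Retr

open Groth.Agent K524.AddC Groth.Agent.LoccohB.HHmap K511.TrSplit

variable {X Y : Scheme.{u}}

theorem nsmul_id (M : X.Modules) (n : ℕ) : (n • 𝟙 M : M ⟶ M) = smulHom M (n : Γ(X, ⊤)) := by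
  induction n with
  | zero => rw [zero_smul, Nat.cast_zero, Groth.Agent.LoccohB.SectLin303.smulHom_zero]
  | succ n ih =>
    rw [succ_nsmul, ih, Nat.cast_succ, Groth.Agent.LoccohB.SectLin303.smulHom_add,
      Groth.Agent.LoccohB.SectLin303.smulHom_one]

variable (f : X ⟶ Y) [IsFinite f] [Etale f]

/-- `O_Y ⟶ f_* O_X` splits if the degree is constant and invertible. -/
theorem exists_retraction {N : ℕ} (hN : ∀ y : Y, f.finrank y = N) (hu : IsUnit (N : Γ(Y, ⊤))) :
    ∃ r : (Scheme.Modules.pushforward f).obj (Coh.structureModule X) ⟶ Coh.structureModule Y,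
      unitMor f ≫ r = 𝟙 _ := by
  obtain ⟨u, hu⟩ := hu
  refine ⟨trMor f ≫ smulHom _ (↑u⁻¹ : Γ(Y, ⊤)), ?_⟩
  rw [← Category.assoc, unitMor_trMor f hN, nsmul_id, ← Groth.Agent.LoccohB.SectLin303.smulHom_mul, ← hu,
    Units.inv_mul, Groth.Agent.LoccohB.SectLin303.smulHom_one]

/-- A locally free `E` is a retract of `f_* f^* E`. -/
theorem exists_retract {N : ℕ} (hN : ∀ y : Y, f.finrank y = N) (hu : IsUnit (N : Γ(Y, ⊤)))
    {E : Y.Modules} (hE : VarietyB.TensCoh.HasBases E) :
    ∃ (i : E ⟶ (Scheme.Modules.pushforward f).obj ((Scheme.Modules.pullback f).obj E))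
      (r : (Scheme.Modules.pushforward f).obj ((Scheme.Modules.pullback f).obj E) ⟶ E), i ≫ r = 𝟙 E := by
  obtain ⟨r, hr⟩ := exists_retraction f hN hu
  have e2 : (CohqB.SerTw.tw E).obj ((Scheme.Modules.pushforward f).obj (Coh.structureModule X)) ≅
      (Scheme.Modules.pushforward f).obj ((Scheme.Modules.pullback f).obj E) :=
    Ega2.Tens.swap _ _ ≪≫ VarietyB.ProjForm.projIsoUnit f hE
  have e3 : (CohqB.SerTw.tw E).obj (Coh.structureModule Y) ≅ E := Ega2.Tens.swap _ _ ≪≫ Ega2.Tens.runit _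
  refine ⟨e3.inv ≫ (CohqB.SerTw.tw E).map (unitMor f) ≫ e2.hom,
    e2.inv ≫ (CohqB.SerTw.tw E).map r ≫ e3.hom, ?_⟩
  have h1 : (CohqB.SerTw.tw E).map (unitMor f) ≫ (CohqB.SerTw.tw E).map r = 𝟙 _ := by
    rw [← Functor.map_comp, hr, CategoryTheory.Functor.map_id]
  simp only [Category.assoc, Iso.hom_inv_id_assoc]
  rw [reassoc_of% h1, e3.inv_hom_id]

theorem add_push_pull {N : ℕ} (hN : ∀ y : Y, f.finrank y = N) (hu : IsUnit (N : Γ(Y, ⊤)))
    {E : Y.Modules} (hE : VarietyB.TensCoh.HasBases E) :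
    Add ((Scheme.Modules.pushforward f).obj ((Scheme.Modules.pullback f).obj E)) E := by
  obtain ⟨i, r, h⟩ := exists_retract f hN hu hE
  exact Add.of_retract i r h

end K524.Retr
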