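import Groth.Agent.BunMod.K524.ModAdd
import Groth.Agent.BunMod.K524.Retr
import Groth.Agent.BunMod.K524.PushO
import Groth.Agent.BunMod.K524.Paral
import Groth.Agent.BunMod.K524.FamVan
import Groth.Agent.CohqB.PullTwist471
import Groth.Agent.Sga67.LocBasisOps
import Groth.Agent.PerfC.PullRestrict

/-!
# `W = p₁_*(μ^* E ⊗ p₂^* E)` is a retract of a sum of copies of `[2r]_* L^{2rm}`
-/

set_option autoImplicit false
universe u
open CategoryTheory CategoryTheory.Limits MonoidalCategory CartesianMonoidalCategory AlgebraicGeometry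
open scoped MonObj
open Groth.Agent Groth.Agent.Grpsch.PicGrp Groth.Agent.Grpsch.Cube K524.Kun K524.AddC K524.ModAdd K524.Psi K524.FamVan
open Groth.Agent.VarietyB.TensCoh (HasBases)
open Groth.Agent.Fdesc.LocGen (isInvertible_tensorPow isInvertible_tensorMod isInvertible_pullback)

namespace K524.WPush

attribute [local instance] Abelian.hasFiniteBiproducts

variable {k : Type u} [Field k]

/-- Pull back of modules along morphisms over `k`. -/
noncomputable abbrev pb {T A : Over (Spec (CommRingCat.of k))} (a : T ⟶ A) (M : A.left.Modules) : T.left.Modules :=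
  (Scheme.Modules.pullback a.left).obj M

/-- Push forward of modules along morphisms over `k`. -/
noncomputable abbrev pf {T A : Over (Spec (CommRingCat.of k))} (a : T ⟶ A) (M : T.left.Modules) : A.left.Modules :=
  (Scheme.Modules.pushforward a.left).obj M

noncomputable def pbComp {T A B : Over (Spec (CommRingCat.of k))} (a : T ⟶ A) (b : A ⟶ B) (M : B.left.Modules) :
    pb a (pb b M) ≅ pb (a ≫ b) M := (Scheme.Modules.pullbackComp a.left b.left).app M

noncomputable def pfComp {T A B : Over (Spec (CommRingCat.of k))} (a : T ⟶ A) (b : A ⟶ B) (M : T.left.Modules) :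
    pf b (pf a M) ≅ pf (a ≫ b) M := (Scheme.Modules.pushforwardComp a.left b.left).app M

noncomputable def pbSq {T A A' B : Over (Spec (CommRingCat.of k))} {a : T ⟶ A} {b : A ⟶ B} {a' : T ⟶ A'} {b' : A' ⟶ B}
    (h : a ≫ b = a' ≫ b') (M : B.left.Modules) : pb a (pb b M) ≅ pb a' (pb b' M) :=
  pbComp a b M ≪≫ eqToIso (by rw [h]) ≪≫ (pbComp a' b' M).symm

noncomputable def pfSq {T A A' B : Over (Spec (CommRingCat.of k))} {a : T ⟶ A} {b : A ⟶ B} {a' : T ⟶ A'} {b' : A' ⟶ B}
    (h : a ≫ b = a' ≫ b') (M : T.left.Modules) : pf b (pf a M) ≅ pf b' (pf a' M) :=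
  pfComp a b M ≪≫ eqToIso (by rw [h]) ≪≫ (pfComp a' b' M).symm

variable {J : Over (Spec (CommRingCat.of k))} [GrpObj J]

/-- `μ^* E ⊗ p₂^* E`. -/
noncomputable abbrev G (J : Over (Spec (CommRingCat.of k))) [GrpObj J] (E : J.left.Modules) : (J ⊗ J).left.Modules :=
  CohB1.tensorMod (pb μ[J] E) (pb (snd J J) E)

/-- `p₁_*(μ^* E ⊗ p₂^* E)`. -/
noncomputable abbrev W (J : Over (Spec (CommRingCat.of k))) [GrpObj J] (E : J.left.Modules) : J.left.Modules :=
  pf (fst J J) (G J E)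

theorem flf_pb {T A : Over (Spec (CommRingCat.of k))} (a : T ⟶ A) {M : A.left.Modules} (h : FlatMod.IsFinLocFree M) :
    FlatMod.IsFinLocFree (pb a M) := PerfC.PullRestrict.isFinLocFree_pullback _ h

theorem flf_G {E : J.left.Modules} (hE : FlatMod.IsFinLocFree E) : FlatMod.IsFinLocFree (G J E) :=
  Sga67.LocBasis.isFinLocFree_tensorMod (flf_pb _ hE) (flf_pb _ hE)

/-- `p₁^* C ⊗ μ^* C`. -/
noncomputable abbrev FC (J : Over (Spec (CommRingCat.of k))) [GrpObj J] (C : J.left.Modules) : (J ⊗ J).left.Modules :=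
  CohB1.tensorMod (pb (fst J J) C) (pb μ[J] C)

section

variable [IsCommMonObj J]

theorem psi_mu (r : ℕ) : psi J (2 * r) r ≫ μ[J] = Paral.amap J ≫ (𝟙 J : J ⟶ J) ^ r := by
  have h1 : psi J (2 * r) r ≫ μ[J] = (fst J J ≫ (𝟙 J : J ⟶ J) ^ (2 * r)) * (snd J J ≫ (𝟙 J : J ⟶ J) ^ r) := by
    rw [← psi_fst, ← psi_snd, MonObj.mul_eq_mul, MonObj.comp_mul]
  rw [h1, MonObj.comp_pow, MonObj.comp_pow, MonObj.comp_pow, Category.comp_id, Category.comp_id, Category.comp_id]
  rw [mul_pow, ← pow_mul]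

variable [IsProper J.hom] [GeometricallyIntegral J.hom] {L : J.left.Modules} {r m v : ℕ} {E : J.left.Modules}

/-- `ψ^* G ∈ Add (p₁^* C ⊗ μ^* C)`. -/
theorem add_pull_G (hL : PicF.IsInvertible L) (hs : BunMod.K596.Sym J L) (hE : BunMod.K596.VerD J L r m v E) :
    Add (FC J (CohB1.tensorPow L (2 * (r * m)))) (pb (psi J (2 * r) r) (G J E)) := by
  have hB : HasBases E := VarietyB.TensCoh.HasBases.of_isFinLocFree hE.locFree
  obtain ⟨e⟩ := hE.iso
  have h1 : Add (CohB1.tensorPow L (r * m)) (pb ((𝟙 J : J ⟶ J) ^ r) E) :=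
    (Add.coprod _ v).congr (Iso.refl _) e.symm
  have h2 := add_tens (add_pull (Paral.amap J).left h1) (add_pull (snd J J).left h1)
  obtain ⟨e2⟩ := Paral.nonempty_iso hL hs (r * m)
  have e3 : pb (psi J (2 * r) r) (G J E) ≅
      CohB1.tensorMod (pb (psi J (2 * r) r) (pb μ[J] E)) (pb (psi J (2 * r) r) (pb (snd J J) E)) :=
    CohqB.PullTwist471.pullTensorIsoLeft _ (VarietyB.ProjForm.HasBases.pullback _ hB) _
  have e4 := pbSq (psi_mu (J := J) r) E
  have e5 := pbSq (psi_snd (J := J) (2 * r) r) E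
  exact h2.congr e2 (Ega2.Tens.mapTIso e4.symm e5.symm ≪≫ e3.symm)

/-- `p₁_*(p₁^* C ⊗ μ^* C) ∈ Add C`. -/
theorem add_push_FC {C : J.left.Modules} (hC : FlatMod.IsFinLocFree C) (hC' : Coh.IsCoh C) :
    Add C (pf (fst J J) (FC J C)) := by
  have h1 : Add (Coh.structureModule J.left) (pf (fst J J) (pb μ[J] C)) :=
    PushO.add_push_snd isPullback_mu.flip hC'
  have h2 := add_tens_right h1 C
  exact h2.congr (Ega2.Tens.runit C)
    (VarietyB.ProjForm.projIso (fst J J).left (VarietyB.TensCoh.HasBases.of_isFinLocFree hC) (pb μ[J] C))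

theorem isUnit_natCast [CharZero k] (X : Over (Spec (CommRingCat.of k))) {n : ℕ} (hn : n ≠ 0) :
    IsUnit (n : Γ(X.left, ⊤)) := by
  have h1 : IsUnit (n : k) := IsUnit.mk0 _ (Nat.cast_ne_zero.mpr hn)
  have h2 := h1.map (Coh.toGlobal X.hom)
  rwa [map_natCast] at h2

/-- `W ∈ Add ([2r]_* L^{2rm})`. -/
theorem add_W [CharZero k] {g : ℕ} (hg : topologicalKrullDim J.left = g) (hL : PicF.IsInvertible L)
    (hs : BunMod.K596.Sym J L) (hr : 1 ≤ r) (hE : BunMod.K596.VerD J L r m v E) :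
    Add (pf ((𝟙 J : J ⟶ J) ^ (2 * r)) (CohB1.tensorPow L (2 * (r * m)))) (W J E) := by
  have hC : PicF.IsInvertible (CohB1.tensorPow L (2 * (r * m))) := isInvertible_tensorPow hL _
  have hC1 : FlatMod.IsFinLocFree (CohB1.tensorPow L (2 * (r * m))) :=
    Pic13.H940.AddL.isFinLocFree_of_isInvertible hC
  have hG := VarietyB.TensCoh.HasBases.of_isFinLocFree (flf_G hE.locFree)
  obtain ⟨h1, h2, h3⟩ := ff_psi (J := J) g hg (2 * r) r (by omega) hr
  have h4 : Etale (psi J (2 * r) r).left :=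
    etale_psi (J := J) (2 * r) r (Nat.cast_ne_zero.mpr (by omega)) (Nat.cast_ne_zero.mpr (by omega))
  have h5 : Add (pf (psi J (2 * r) r) (pb (psi J (2 * r) r) (G J E))) (G J E) :=
    Retr.add_push_pull (psi J (2 * r) r).left h3 (isUnit_natCast (J ⊗ J) (by positivity)) hG
  have h6 := add_pull_G hL hs hE
  have h7 : Add (pf (fst J J) (pf (psi J (2 * r) r) (FC J (CohB1.tensorPow L (2 * (r * m)))))) (W J E) :=
    add_push _ ((add_push _ h6).trans h5)
  have h8 := add_push ((𝟙 J : J ⟶ J) ^ (2 * r)).left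
    (add_push_FC hC1 (Groth.Agent.S2329.isCoh_of_isInvertible hC))
  exact h8.trans (h7.congr (pfSq (psi_fst (J := J) (2 * r) r) _) (Iso.refl _))

end

end K524.WPush
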