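import Groth.Agent.VBCurve.K707.Avoid
import Mathlib.LinearAlgebra.Dimension.StrongRankCondition
import Mathlib.LinearAlgebra.FiniteDimensional.Lemmas

/-!
# General sections completing a map of rank one, the combinatorial core (helper524)

`exists_span`: semilinear spanning maps `W → V z` into spaces of dimension `r` over a space `Z` all of whose closed
subsets not containing `ξ` are finite, and a subset `W₀` of `W` whose image at `ξ` is not zero; then there are `r`
elements of `W` which together with `W₀` span every `V z`.
-/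

set_option autoImplicit false

namespace K524.X1Alg

variable {k : Type*} [Field k] [Infinite k] {W : Type*} [AddCommGroup W] [Module k W]

section open_

variable {Z : Type*} [TopologicalSpace Z] (K : Z → Type*) [∀ z, Field (K z)] (V : Z → Type*)
  [∀ z, AddCommGroup (V z)] [∀ z, Module (K z) (V z)] (ev : ∀ z, W → V z)

/-- The dimension of the span is lower semicontinuous. -/
theorem isOpen_le [∀ z, Module.Finite (K z) (V z)]
    (hopen : ∀ (m : ℕ) (w : Fin m → W), IsOpen {z | LinearIndependent (K z) (ev z ∘ w)}) (A : Set W) (m : ℕ) :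
    IsOpen {z | m ≤ Module.finrank (K z) (Submodule.span (K z) (ev z '' A))} := by
  have h : {z | m ≤ Module.finrank (K z) (Submodule.span (K z) (ev z '' A))} =
      ⋃ w : {w : Fin m → W // ∀ i, w i ∈ A}, {z | LinearIndependent (K z) (ev z ∘ w.1)} := by
    ext z
    simp only [Set.mem_setOf_eq, Set.mem_iUnion]
    constructor
    · intro hm
      obtain ⟨f, hf, -, hli⟩ := Submodule.exists_fun_fin_finrank_span_eq (K z) (ev z '' A)
      choose g hg hgf using hf
      refine ⟨⟨fun i => g (Fin.castLE hm i), fun i => hg _⟩, ?_⟩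
      have h1 : (ev z ∘ fun i => g (Fin.castLE hm i)) = f ∘ Fin.castLE hm := by
        funext i
        exact hgf _
      change LinearIndependent (K z) (ev z ∘ fun i => g (Fin.castLE hm i))
      rw [h1]
      exact hli.comp _ (Fin.castLE_injective hm)
    · rintro ⟨⟨w, hw⟩, hli⟩
      have h1 : Module.finrank (K z) (Submodule.span (K z) (Set.range (ev z ∘ w))) = m := by
        rw [finrank_span_eq_card hli, Fintype.card_fin]
      rw [← h1]
      refine Submodule.finrank_mono (Submodule.span_mono ?_)
      rintro _ ⟨i, rfl⟩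
      exact ⟨w i, hw i, rfl⟩
  rw [h]
  exact isOpen_iUnion fun w => hopen m w.1

end open_

theorem exists_span {Z : Type*} [TopologicalSpace Z] {ξ : Z}
    (hfin : ∀ C : Set Z, IsClosed C → ξ ∉ C → C.Finite)
    (K : Z → Type*) [∀ z, Field (K z)] (V : Z → Type*) [∀ z, AddCommGroup (V z)] [∀ z, Module (K z) (V z)]
    [∀ z, Module.Finite (K z) (V z)]
    (c : ∀ z, k →+* K z) (ev : ∀ z, W →+ V z) (hev : ∀ z (t : k) (w : W), ev z (t • w) = c z t • ev z w)
    {r : ℕ} (hr : ∀ z, Module.finrank (K z) (V z) = r)
    (hspan : ∀ z, Submodule.span (K z) (Set.range (ev z)) = ⊤)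
    (hopen : ∀ (m : ℕ) (w : Fin m → W), IsOpen {z | LinearIndependent (K z) (ev z ∘ w)})
    (W₀ : Set W) (h₀ : ∃ b ∈ W₀, ev ξ b ≠ 0) :
    ∃ w : Fin r → W, ∀ z, Submodule.span (K z) (ev z '' (W₀ ∪ Set.range w)) = ⊤ := by
  let D : Set W → Z → ℕ := fun A z => Module.finrank (K z) (Submodule.span (K z) (ev z '' A))
  have hDop : ∀ (A : Set W) (m : ℕ), IsOpen {z | m ≤ D A z} := fun A m =>
    isOpen_le K V (fun z => ev z) hopen A m
  have hDr : ∀ A z, D A z ≤ r := fun A z => (Submodule.finrank_le _).trans (hr z).le
  have htop : ∀ A z, D A z = r → Submodule.span (K z) (ev z '' A) = ⊤ := fun A z h =>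
    Submodule.eq_top_of_finrank_eq (by rw [hr z]; exact h)
  have hmono : ∀ A B z, A ⊆ B → D A z ≤ D B z := fun A B z h =>
    Submodule.finrank_mono (Submodule.span_mono (Set.image_mono h))
  have key : ∀ j : ℕ, j ≤ r → ∃ w : Fin j → W, (∀ z, j ≤ D (W₀ ∪ Set.range w) z) ∧
      min (j + 1) r ≤ D (W₀ ∪ Set.range w) ξ := by
    intro j
    induction j with
    | zero =>
      intro _
      refine ⟨Fin.elim0, fun z => Nat.zero_le _, ?_⟩
      refine (Nat.min_le_left _ _).trans ?_
      obtain ⟨b, hb, hne⟩ := h₀
      have h1 : Nontrivial (Submodule.span (K ξ) (ev ξ '' (W₀ ∪ Set.range (Fin.elim0 : Fin 0 → W)))) := by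
        refine ⟨⟨⟨ev ξ b, Submodule.subset_span ⟨b, Or.inl hb, rfl⟩⟩, 0, fun h => hne ?_⟩⟩
        exact congrArg Subtype.val h
      exact Nat.succ_le_of_lt Module.finrank_pos
    | succ j ih =>
      intro hj
      obtain ⟨w, hw, hwξ⟩ := ih (by omega)
      let A := W₀ ∪ Set.range w
      let bad : Set Z := {z | ¬ (j + 1 ≤ D A z)}
      have hbad : bad.Finite := by
        refine hfin bad ?_ ?_
        · have := (hDop A (j + 1)).isClosed_compl
          exact this
        · intro h
          refine h ?_
          have : min (j + 1) r = j + 1 := by omega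
          rw [this] at hwξ
          exact hwξ
      let s : Set Z := {z | z ∈ bad ∪ {ξ} ∧ D A z ≠ r}
      have hs : s.Finite := (hbad.union (Set.finite_singleton ξ)).subset fun z hz => hz.1
      obtain ⟨x, hx⟩ := K707.Avoid.exists_not_mem (k := k) hs
        (fun z => K707.Avoid.pre (c z) (ev z) (hev z) (Submodule.span (K z) (ev z '' A))) (by
          intro z hz h
          refine hz.2 ?_
          have h1 : Submodule.span (K z) (ev z '' A) = ⊤ := by
            rw [eq_top_iff, ← hspan z, Submodule.span_le]
            rintro _ ⟨w', rfl⟩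
            have : w' ∈ K707.Avoid.pre (c z) (ev z) (hev z) (Submodule.span (K z) (ev z '' A)) := by
              rw [h]; trivial
            exact this
          change Module.finrank (K z) (Submodule.span (K z) (ev z '' A)) = r
          rw [h1, finrank_top, hr])
      have hrange : W₀ ∪ Set.range (Fin.cons x w : Fin (j + 1) → W) = insert x A := by
        rw [Fin.range_cons]
        exact Set.union_insert
      have hstep : ∀ z ∈ s, D A z + 1 ≤ D (insert x A) z := by
        intro z hz
        refine Nat.succ_le_of_lt (Submodule.finrank_lt_finrank_of_lt ?_)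
        refine lt_of_le_of_ne (Submodule.span_mono (Set.image_mono (Set.subset_insert _ _))) fun h => ?_
        refine hx z hz ?_
        change ev z x ∈ Submodule.span (K z) (ev z '' A)
        rw [h]
        exact Submodule.subset_span ⟨x, Set.mem_insert _ _, rfl⟩
      refine ⟨Fin.cons x w, fun z => ?_, ?_⟩
      · rw [hrange]
        by_cases hz : j + 1 ≤ D A z
        · exact hz.trans (hmono _ _ z (Set.subset_insert _ _))
        · by_cases hz2 : D A z = r
          · omega
          · have h1 := hstep z ⟨Or.inl hz, hz2⟩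
            have h2 := hw z
            change j ≤ D A z at h2
            omega
      · rw [hrange]
        by_cases hz2 : D A ξ = r
        · have := hmono A (insert x A) ξ (Set.subset_insert _ _)
          omega
        · have h1 := hstep ξ ⟨Or.inr rfl, hz2⟩
          change min (j + 1) r ≤ D A ξ at hwξ
          omega
  obtain ⟨w, hw, -⟩ := key r le_rfl
  exact ⟨w, fun z => htop _ z (le_antisymm (hDr _ z) (hw z))⟩

end K524.X1Alg
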