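import Groth.Agent.BunMod.K824.Join
import Groth.Agent.BunMod.K311.KE
import Groth.Agent.BunMod.K311.FreeLocus
import Groth.Agent.BunMod.K140.Transport
import Groth.Agent.BunMod.K524.X1Coker

/-!
# The family of cokernels of the maps `K ⟶ G` (helper524)

`K`, `G` modules on a curve `X` over `k`, `e : Fin n → (K ⟶ G)`; for a test scheme `T` and functions `c i` on `T`:

* `uu e T c = ∑ c i • e i : K_T ⟶ G_T`, `FE e T c` its cokernel; `nonempty_pl`: base change;
* `nonempty_cst`: over the point;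
* `exists_good`: the open over which the cokernel is locally free of rank `r`.
-/

set_option autoImplicit false
universe u

open CategoryTheory CategoryTheory.Limits AlgebraicGeometry

namespace K524.X1Fam

open K140.BM K311.KE Groth.Agent Groth.Agent.LoccohB.HHmap Groth.Agent.LoccohB.SectLin303

variable {k : Type u} [Field k] {X : Scheme.{u}} [X.Over (Spec (CommRingCat.of k))] {K G : X.Modules} {n : ℕ}
  (e : Fin n → (K ⟶ G))

/-- The map `∑ c i • e i` on `X_T`. -/
noncomputable def uu (T : Over (B0 k)) (c : Fin n → Γ(T.left, ⊤)) : cst k T K ⟶ cst k T G :=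
  ∑ i, fT k X T (c i) • cm T (e i)

/-- The cokernel of `∑ c i • e i`. -/
noncomputable def FE (T : Over (B0 k)) (c : Fin n → Γ(T.left, ⊤)) : (PicF.XT (st k X) T).Modules :=
  cokernel (uu e T c)

theorem uu_nat {T T' : Over (B0 k)} (g : T' ⟶ T) (c : Fin n → Γ(T.left, ⊤)) :
    (Scheme.Modules.pullback (PicF.XTmap (st k X) g)).map (uu e T c) ≫ (cstI g G).inv =
      (cstI g K).inv ≫ uu e T' (fun i => g.left.appTop (c i)) := by
  rw [Iso.comp_inv_eq, Category.assoc, Iso.eq_inv_comp, uu, uu, Functor.map_sum, Preadditive.comp_sum,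
    Preadditive.sum_comp]
  refine Finset.sum_congr rfl fun i _ => ?_
  rw [pull_smul, fT_nat, Linear.comp_smul, Linear.smul_comp, cstI_nat]

/-- **Base change.** -/
theorem nonempty_pl {T T' : Over (B0 k)} (g : T' ⟶ T) (c : Fin n → Γ(T.left, ⊤)) :
    Nonempty (pl k X g (FE e T c) ≅ FE e T' (fun i => g.left.appTop (c i))) :=
  ⟨PreservesCokernel.iso (Scheme.Modules.pullback (PicF.XTmap (st k X) g)) (uu e T c) ≪≫
    cokernel.mapIso _ _ (cstI g K).symm (cstI g G).symm (uu_nat e g c)⟩

/-- The map `∑ a i • e i` on `X`. -/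
noncomputable def ua (a : Fin n → k) : K ⟶ G := ∑ i, ((st k X).appTop (kOf k (a i))) • e i

theorem fT_const (T : Over (B0 k)) (a : k) :
    (pullback.fst (st k X) T.hom).appTop ((st k X).appTop (kOf k a)) = fT k X T (T.hom.appTop (kOf k a)) := by
  have h : pullback.fst (st k X) T.hom ≫ st k X = PicF.XTproj (st k X) T ≫ T.hom := pullback.condition
  have h2 := congrArg (fun φ : PicF.XT (st k X) T ⟶ B0 k => φ.appTop.hom (kOf k a)) h
  simp only [Scheme.Hom.comp_appTop, CommRingCat.hom_comp, RingHom.comp_apply] at h2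
  exact h2

theorem uu_const (T : Over (B0 k)) (a : Fin n → k) :
    uu e T (fun i => T.hom.appTop (kOf k (a i))) = cm T (ua e a) := by
  rw [uu, ua, cm, Functor.map_sum]
  refine Finset.sum_congr rfl fun i _ => ?_
  rw [pull_smul, fT_const]

/-- Constant families. -/
theorem nonempty_cst (T : Over (B0 k)) (a : Fin n → k) :
    Nonempty (FE e T (fun i => T.hom.appTop (kOf k (a i))) ≅ cst k T (cokernel (ua e a))) := by
  exact ⟨cokernelIsoOfEq (uu_const e T a) ≪≫
    (PreservesCokernel.iso (Scheme.Modules.pullback (pullback.fst (st k X) T.hom)) (ua e a)).symm⟩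

variable {r : ℕ}

/-- **The open over which the cokernel is locally free of rank `r`.** -/
theorem exists_good [IsProper (st k X)] (hK : FlatMod.IsFinLocFreeOfRank 1 K)
    (hG : FlatMod.IsFinLocFreeOfRank (r + 1) G) (T : Over (B0 k)) (c : Fin n → Γ(T.left, ⊤)) :
    ∃ A : T.left.Opens, ∀ (T' : Over (B0 k)) (g : T' ⟶ T),
      FlatMod.IsFinLocFreeOfRank r (pl k X g (FE e T c)) ↔ ∀ x, g.left x ∈ A := by
  have hp : IsProper (PicF.XTproj (st k X) T) :=
    inferInstanceAs (IsProper (pullback.snd (st k X) T.hom))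
  have hKT : FlatMod.IsFinLocFreeOfRank 1 (cst k T K) := PerfB.FibreConc.isFinLocFreeOfRank_pullback _ hK
  have hGT : FlatMod.IsFinLocFreeOfRank (r + 1) (cst k T G) := PerfB.FibreConc.isFinLocFreeOfRank_pullback _ hG
  have hqK := X1Coker.qcoh_of_rank hKT
  have hqG := X1Coker.qcoh_of_rank hGT
  have hq : Coh.IsQCoh (FE e T c) := PerfA.QCohSerre.isQCoh_cokernel _ hqK hqG
  have hft : CohB1.IsFT (FE e T c) := X1Coker.isFT_cokernel hGT _
  have hcl : IsClosed (PicF.XTproj (st k X) T '' ((Fitt.sheafIdeal (FE e T c) r).support :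
      Set (PicF.XT (st k X) T))) :=
    (PicF.XTproj (st k X) T).isClosedMap _ (Fitt.sheafIdeal (FE e T c) r).support.isClosed
  refine ⟨⟨_, hcl.isOpen_compl⟩, fun T' g => ?_⟩
  have hcomap := Groth.Agent.SDiv.K474.FittSheaf.sheafIdeal_comap (PicF.XTmap (st k X) g) (FE e T c) hq hft
  have hq' : Coh.IsQCoh (pl k X g (FE e T c)) := by
    have : (FE e T c).IsQuasicoherent := hq
    exact Groth.Agent.CohqA.PullbackQCoh.isQuasicoherent_pullback _ _
  have hft' : CohB1.IsFT (pl k X g (FE e T c)) :=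
    Groth.Agent.SDiv.K474.FittSheaf.isFT_pullback (PicF.XTmap (st k X) g) _ hq hft
  have key := K311.FreeLocus.comap_eq_top_iff (PicF.XTproj (st k X) T) (Fitt.sheafIdeal (FE e T c) r)
    (PicF.XTmap (st k X) g) (PicF.XTproj (st k X) T') g.left (isPullback_XTmap g)
  constructor
  · intro h x
    have h1 := ((Groth.Agent.SDiv.K474.FittLoc.isFinLocFreeOfRank_iff_fitting _ hq' hft' r).1 h).2 r le_rfl
    rw [← hcomap r] at h1
    exact key.1 h1 x
  · intro h
    refine Groth.Agent.SDiv.K474.FittLoc.isFinLocFreeOfRank_of_fitting _ hq' hft' r (fun i hi => ?_) (fun x hx => ?_)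
    · have h1 : Fitt.sheafIdeal (FE e T c) i = ⊥ := X1Coker.fitt_bot hKT hGT (uu e T c) hqK hqG hft hi
      rw [← hcomap i, h1, Scheme.IdealSheafData.comap_bot]
    · rw [← hcomap r, key.2 h] at hx
      have h2 : (⊤ : (PicF.XT (st k X) T').IdealSheafData).support = ⊥ := Scheme.IdealSheafData.support_top
      rw [h2] at hx
      exact hx

end K524.X1Fam
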