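import Groth.Agent.BunMod.K524.X1Alg
import Groth.Agent.VBCurve.K707.IndepGlob
import Groth.Agent.TorSh.K653.RatEmb
import Groth.Agent.Dcoh.StalkMod

/-!
# General sections completing a map from a line bundle to a bundle on a curve (helper524)

`exists_epi`: `s : B ⟶ E` nonzero, `B` and `E` globally generated, `E` finite locally free of rank `r` on an integral
Noetherian scheme of dimension at most one over an infinite field; then there are `r` global sections of `E` which
together with `s` give an epimorphism `B ⊞ O^r ⟶ E`.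
-/

set_option autoImplicit false
universe u

open CategoryTheory CategoryTheory.Limits AlgebraicGeometry Opposite TopologicalSpace
open scoped TensorProduct

namespace K524.X1Gen

open Groth.Agent.Sga67.Sec Groth.Agent.Sga67.LocBasis Groth.Agent.Sga67.LocBasisStalk
open K707.Indep K707.IndepCoker K707.IndepGlob Groth.Agent.CycB.StalkExact

variable {X : Scheme.{u}} {E B : X.Modules} {r : ℕ}

/-- A closed subset of an irreducible curve which does not contain the generic point is finite. -/
theorem finite_of_not_mem [IrreducibleSpace X] [NoetherianSpace X] (hd : topologicalKrullDim X ≤ 1) {C : Set X}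
    (hC : IsClosed C) (hξ : genericPoint X ∉ C) : C.Finite := by
  obtain ⟨S, hS, hSc, hSi, hSZ⟩ := NoetherianSpace.exists_finite_set_isClosed_irreducible hC
  rw [hSZ]
  refine Set.Finite.sUnion hS ?_
  intro A hA
  obtain ⟨x, hx⟩ := QuasiSober.sober (hSi A hA) (hSc A hA)
  have hne : A ≠ Set.univ := by
    rintro rfl
    apply hξ
    rw [hSZ]
    exact ⟨Set.univ, hA, trivial⟩
  have key : A ⊆ {x} := by
    intro w hw
    have h1 : closure ({w} : Set X) ⊆ A :=
      (hSc A hA).closure_subset_iff.mpr (Set.singleton_subset_iff.mpr hw)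
    have h2 := K707.AvoidTop.eq_of_lt hd isClosed_closure isIrreducible_singleton.closure (hSc A hA) (hSi A hA)
      isClosed_univ (IrreducibleSpace.isIrreducible_univ X) h1 (Set.subset_univ _) hne
    have h3 : Inseparable w x := inseparable_iff_closure_eq.mpr (h2.trans hx.def.symm)
    exact h3.eq
  exact (Set.finite_singleton x).subset key

/-- The values of sections of `E` at the generic point determine them. -/
theorem tev_injective [IsIntegral X] (M : X.Modules) : Function.Injective (tev M (genericPoint X)) := by
  have hK : IsField (X.presheaf.stalk (genericPoint X)) := (inferInstance : Field X.functionField).toIsField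
  let _ : Field (X.presheaf.stalk (genericPoint X)) := hK.toField
  have h1 : Module.FaithfullyFlat (X.presheaf.stalk (genericPoint X)) (KK X (genericPoint X)) := by
    have : Nontrivial (KK X (genericPoint X)) := inferInstance
    have h2 : Module.Free (X.presheaf.stalk (genericPoint X)) (KK X (genericPoint X)) := inferInstance
    infer_instance
  exact Module.FaithfullyFlat.tensorProduct_mk_injective (B := KK X (genericPoint X))
    (M.presheaf.stalk (genericPoint X))

theorem exists_ev_ne_zero [IsIntegral X] (hE : FlatMod.IsFinLocFreeOfRank r E)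
    (hqE : Coh.IsQCoh E) (htf : TorSh.IsTorsionFree E) (hgg : Curv2.IsGloballyGenerated B) {s : B ⟶ E} (hs : s ≠ 0) :
    ∃ b : Sec B ⊤, ev E (U := ⊤) (genericPoint X) trivial (appS s ⊤ b) ≠ 0 := by
  by_contra hcon
  push Not at hcon
  apply hs
  obtain ⟨ι, e, he⟩ := Groth.Agent.CurvesC.GGSec.exists_sections_of_isGloballyGenerated hgg
  have h1 : ∀ i, appS s ⊤ (e i) = 0 := by
    intro i
    have h2 := hcon (e i)
    have h3 : ger E (U := ⊤) (genericPoint X) trivial (appS s ⊤ (e i)) = 0 :=
      tev_injective E (h2.trans (map_zero (tev E (genericPoint X))).symm)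
    exact K653.RatEmb.germ_injective hqE htf (U := ⊤) (genericPoint X) trivial
      (h3.trans (map_zero (Groth.Agent.Ega1.ModGerm.germ E ⊤ (genericPoint X) trivial)).symm)
  have h4 : ∀ x : X, ∀ m, stalkLin s x m = 0 := by
    intro x m
    have hm : m ∈ Submodule.span (X.presheaf.stalk x) (Set.range fun i => B.presheaf.germ ⊤ x trivial (e i)) := by
      rw [he]; trivial
    induction hm using Submodule.span_induction with
    | mem m hm =>
      obtain ⟨i, rfl⟩ := hm
      refine (stalkLin_ger s (U := ⊤) x trivial (e i)).trans ?_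
      rw [h1, ger_zero]
    | zero => rw [map_zero]
    | add m m' _ _ h h' => rw [map_add, h, h', add_zero]
    | smul a m _ h => rw [map_smul, h, smul_zero]
  refine hom_ext fun U t => ?_
  rw [appS_zero]
  refine Groth.Agent.Ega1.ModGerm.section_eq_zero E _ fun y hy => ?_
  exact (stalkLin_ger s y hy t).symm.trans (h4 y _)

/-- Sections whose values span the fibres give an epimorphism. -/
theorem epi_of_span (hE : FlatMod.IsFinLocFreeOfRank r E) (s : B ⟶ E) {m : ℕ} (w : Fin m → Sec E ⊤)
    (h : ∀ x : X, Submodule.span (KK X x) ((fun t : Sec E ⊤ => ev E (U := ⊤) x trivial t) ''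
      (Set.range (appS s ⊤) ∪ Set.range w)) = ⊤) :
    Epi (biprod.desc s (homOfFam w)) := by
  apply Groth.Agent.Dcoh.StalkMod.epi_of_surjective
  intro x
  have hfin : Module.Finite (X.presheaf.stalk x) (E.presheaf.stalk x) := by
    simp only [FlatMod.IsFinLocFreeOfRank, nonempty_restrict_iso_iff] at hE
    obtain ⟨U, hxU, b, hb⟩ := hE x
    obtain ⟨β, -⟩ := Groth.Agent.Krr.H487.LocBasisPull.exists_stalkBasis hb x hxU
    exact Module.Finite.of_basis β
  set φ := biprod.desc s (homOfFam w) with hφ
  let N : Submodule (X.presheaf.stalk x) (E.presheaf.stalk x) := LinearMap.range (stalkLin φ x)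
  have hN : N = ⊤ := by
    rw [← IsLocalRing.map_tensorProduct_mk_eq_top]
    have h1 : ∀ t ∈ Set.range (appS s ⊤) ∪ Set.range w, ger E (U := ⊤) x trivial t ∈ N := by
      rintro t (⟨b, rfl⟩ | ⟨i, rfl⟩)
      · refine ⟨stalkLin biprod.inl x (ger B (U := ⊤) x trivial b), ?_⟩
        have h2 := LinearMap.congr_fun (stalkLin_comp (biprod.inl : B ⟶ B ⊞ FlatMod.freeMod X m) φ x)
          (ger B (U := ⊤) x trivial b)
        rw [hφ, biprod.inl_desc] at h2
        refine h2.symm.trans ?_
        exact stalkLin_ger s (U := ⊤) x trivial b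
      · refine ⟨stalkLin biprod.inr x (ger _ (U := ⊤) x trivial (freeBasis X m i)), ?_⟩
        have h2 := LinearMap.congr_fun (stalkLin_comp (biprod.inr : FlatMod.freeMod X m ⟶ B ⊞ FlatMod.freeMod X m) φ x)
          (ger _ (U := ⊤) x trivial (freeBasis X m i))
        rw [hφ, biprod.inr_desc] at h2
        refine h2.symm.trans ?_
        refine (stalkLin_ger (homOfFam w) (U := ⊤) x trivial (freeBasis X m i)).trans ?_
        congr 1
        have h3 : Sigma.ι (fun _ : Fin m => Coh.structureModule X) i ≫ homOfFam w = homUnit E (w i) := by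
          simp [homOfFam]
        rw [freeBasis, ← appS_comp, h3, homUnit_one, res_self]
    have h2 : (⊤ : Submodule (KK X x) (Fib E x)) ≤ Submodule.span (KK X x) (N.map (tev E x)) := by
      rw [← h x]
      refine Submodule.span_mono ?_
      rintro _ ⟨t, ht, rfl⟩
      exact ⟨_, h1 t ht, rfl⟩
    rw [eq_top_iff]
    rintro v -
    have hv : v ∈ Submodule.span (KK X x) (N.map (tev E x) : Set (Fib E x)) := h2 trivial
    change v ∈ N.map (tev E x)
    induction hv using Submodule.span_induction with
    | mem v hv => exact hv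
    | zero => exact Submodule.zero_mem _
    | add v v' _ _ h h' => exact Submodule.add_mem _ h h'
    | smul a v _ h =>
      obtain ⟨a, rfl⟩ := IsLocalRing.residue_surjective a
      obtain ⟨n, hn, rfl⟩ := h
      exact ⟨a • n, N.smul_mem _ hn, tev_smul E x a n⟩
  intro y
  have : y ∈ N := by rw [hN]; trivial
  exact this

/-- **General sections.** -/
theorem exists_epi {k : Type*} [Field k] [Infinite k] (c : k →+* Γ(X, ⊤)) [IsIntegral X] [NoetherianSpace X]
    (hd : topologicalKrullDim X ≤ 1)
    (hE : FlatMod.IsFinLocFreeOfRank r E) (hgg : Curv2.IsGloballyGenerated E) (hqE : Coh.IsQCoh E)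
    (htf : TorSh.IsTorsionFree E) (hB : Curv2.IsGloballyGenerated B) {s : B ⟶ E} (hs : s ≠ 0) :
    ∃ w : Fin r → Sec E ⊤, Epi (biprod.desc s (homOfFam w)) := by
  obtain ⟨b, hb⟩ := exists_ev_ne_zero hE hqE htf hB hs
  obtain ⟨ι, e, he⟩ := Groth.Agent.CurvesC.GGSec.exists_sections_of_isGloballyGenerated hgg
  let _ : Module k (Sec E ⊤) := Module.compHom _ c
  have hrank : ∀ x : X, Module.Finite (KK X x) (Fib E x) ∧ Module.finrank (KK X x) (Fib E x) = r := by
    intro x
    have hE' := hE
    simp only [FlatMod.IsFinLocFreeOfRank, nonempty_restrict_iso_iff] at hE'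
    obtain ⟨U, hxU, b, hb⟩ := hE' x
    obtain ⟨β, -⟩ := exists_fibBasis hb x hxU
    exact ⟨Module.Finite.of_basis β, by rw [Module.finrank_eq_card_basis β, Fintype.card_fin]⟩
  have hf := fun x => (hrank x).1
  let evh : ∀ z : X, Sec E ⊤ →+ Fib E z := fun z =>
    { toFun := fun s => ev E (U := ⊤) z trivial s
      map_zero' := ev_zero _ _ _
      map_add' := fun s t => ev_add _ _ _ s t }
  have hgen : ∀ C : Set X, IsClosed C → genericPoint X ∉ C → C.Finite := by
    intro C hC hξ
    exact finite_of_not_mem hd hC hξ
  obtain ⟨w, hw⟩ := K524.X1Alg.exists_span (k := k) (W := Sec E ⊤) (ξ := genericPoint X) hgen (fun z => KK X z)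
    (fun z => Fib E z) (fun z => (evO (U := ⊤) z trivial).comp c) evh
    (fun z t w => ev_smul E (U := ⊤) z trivial (c t) w) (fun z => (hrank z).2) (fun z => span_ev e z (he z))
    (fun m w => isOpen_indep hE w) (Set.range (appS s ⊤)) ⟨_, ⟨b, rfl⟩, hb⟩
  exact ⟨w, epi_of_span hE s w hw⟩

end K524.X1Gen
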