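import Groth.Agent.BunMod.K524.X1Pt
import Groth.Agent.BunMod.K562.Jump
import Groth.Agent.BunMod.K319.SumFam
import Groth.Agent.BunMod.K757.SubDet
import Groth.Agent.BunMod.K54.Theta
import Groth.Agent.VBCurve.K708.PtTwist

/-!
# Irreducible families of semistable bundles (helper524, BunMod node X1)

`X` a smooth proper geometrically connected curve over an algebraically closed field, `1 ≤ r`, `L` of degree zero.

* `exists_family_sec` (X1b): for every invertible `N` there are an open subscheme `T` of an affine space and an admissible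
  family on `X_T` whose fibres at the `k`-points of `T` are the semistable bundles `E` of rank `r` and determinant `L` with
  `H⁰(E ⊗ N) ≠ 0`;
* `exists_family_all` (X1a): the same for all semistable bundles of rank `r` and determinant `L`, `T` nonempty;
* `irreducibleSpace_atlas`: the scheme `Z` of an atlas of `ussDetOK r L` is irreducible;
* `isPreirreducible_supp`: the support of the theta ideal in `Z` is preirreducible.
-/

set_option autoImplicit false
universe u

open CategoryTheory CategoryTheory.Limits AlgebraicGeometry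

namespace K524.X1Main

open K140.BM Groth.Agent K524.X1Fam K524.X1Open K524.X1Pt K824.Join K562.OkPull K707.Deg K707.Semi

variable {k : Type u} [Field k] {X : Scheme.{u}} [X.Over (Spec (CommRingCat.of k))]

/-- Constant families over the point determine the module. -/
theorem iso_of_cst {M M' : X.Modules} (e : cst k (Over.mk (𝟙 (B0 k))) M ≅ cst k (Over.mk (𝟙 (B0 k))) M') :
    Nonempty (M ≅ M') := by
  obtain ⟨g, hg⟩ := model_iso k X
  obtain ⟨i⟩ := hg M
  obtain ⟨i'⟩ := hg M'
  exact ⟨i.symm ≪≫ (Scheme.Modules.pullback g).mapIso e ≪≫ i'⟩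

variable [IsAlgClosed k] [IsProper (X ↘ Spec (CommRingCat.of k))] [Smooth (X ↘ Spec (CommRingCat.of k))]
  [GeometricallyConnected (X ↘ Spec (CommRingCat.of k))] (hdim : topologicalKrullDim X = 1) {r : ℕ} (hr : 1 ≤ r)
  {L : X.Modules} (hL : PicF.IsInvertible L) (hL0 : Curv2.deg k X L 1 = 0)

include hdim hr hL hL0

/-- **The family of semistable bundles with a section** (X1b). -/
theorem exists_family_sec {N : X.Modules} (hN : PicF.IsInvertible N) :
    ∃ (n : ℕ) (T : Over (B0 k)) (j : T ⟶ sA k (MvPolynomial (Fin n) k)) (E : (PicF.XT (st k X) T).Modules),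
      IsOpenImmersion j.left ∧ BunMod.ussDetOK (st k X) r L T E ∧
      ∀ F : (PicF.XT (st k X) (Over.mk (𝟙 (B0 k)))).Modules,
        BunMod.ussDetOK (st k X) r L (Over.mk (𝟙 (B0 k))) F →
        ((∃ w : Over.mk (𝟙 (B0 k)) ⟶ T, Nonempty (pl k X w E ≅ F)) ↔
          ¬ Subsingleton (Coh.HH (PicF.XT (st k X) (Over.mk (𝟙 (B0 k))))
            (CohB1.tensorMod F (cst k (Over.mk (𝟙 (B0 k))) N)) 0)) := by
  have hint : IsIntegral X := K533.CurveBasic.isIntegral (k := k) (X ↘ Spec (CommRingCat.of k))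
  obtain ⟨K, G, D, hK, hG, hD, hKL, H⟩ := X1Curve.exists_KG (k := k) hdim hr hL hN
  have hN' : IsNoetherian X := K707.Deg.isNoetherian k
  obtain ⟨n, e, he⟩ := exists_gens (k := k) (K703.Basic.isCoh_of_inv hK) (K707.Base.isCoh_of_rank hG)
  obtain ⟨T, j, E, hj, hE, hT⟩ := exists_fam e hdim hr hK hG hD hL hL0 hKL
  refine ⟨n, T, j, E, hj, hE, fun F hF => ?_⟩
  obtain ⟨B, ⟨i⟩, h1, h2, h3, h4⟩ := exists_bundle hdim hL0 hF
  rw [hT F hF, hh_iff hN i, H B h1 h2 h3 h4]
  constructor
  · rintro ⟨a, ⟨i'⟩⟩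
    exact ⟨ua e a, iso_of_cst (i' ≪≫ i.symm)⟩
  · rintro ⟨u, ⟨i'⟩⟩
    obtain ⟨a, rfl⟩ := he u
    exact ⟨a, ⟨(Scheme.Modules.pullback _).mapIso i' ≪≫ i⟩⟩

omit [IsAlgClosed k] in
/-- `L ⊕ O^(r-1)` as a family over the point. -/
theorem exists_pt [IsAlgClosed k] (T : Over (B0 k)) :
    ∃ F : (PicF.XT (st k X) T).Modules, BunMod.ussDetOK (st k X) r L T F := by
  obtain ⟨n, rfl⟩ : ∃ n, r = n + 1 := ⟨r - 1, by omega⟩
  have h1 : (ModFun.PicDeg (st k X) 0).ok T (cst k T L) :=
    K757.SubDet.picDeg_cst (f := st k X) hdim hL hL0 T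
  have h2 := K319.SumFam.ussOK_dsO hdim h1 n
  obtain ⟨D, hD⟩ := K482.CanonTool.exists_isExtPow (n + 1) (Krr.H495.Rank.isFinLocFree_of_rank h2.1)
  obtain ⟨i⟩ := K319.Dsum.nonempty_of_isExtPow h1.1.2 n hD
  exact ⟨_, h2.1, ⟨D, hD, K824.Det.r_of_iso _ ⟨i.symm⟩⟩, h2.2.2⟩

omit [GeometricallyConnected (X ↘ Spec (CommRingCat.of k))] hr hL hL0 in
theorem exists_N [IsIntegral X] : ∃ N : X.Modules, PicF.IsInvertible N ∧ ∀ (r : ℕ) (E : X.Modules), 1 ≤ r →
    FlatMod.IsFinLocFreeOfRank r E → dg k E = 0 →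
    ∃ f : Coh.structureModule X ⟶ CohB1.tensorMod E N, f ≠ 0 := by
  have C : K707.Base.Crv k X := K707.Base.Crv.of_smooth hdim
  obtain ⟨N, hN, hdN⟩ := _root_.K708.PtTwist.exists_inv_ge C (1 - Curv2.euler k X (Coh.structureModule X))
  refine ⟨N, hN, fun r E hr hE hE0 => _root_.K708.PtTwist.exists_section C ?_⟩
  have hc := K707.Base.isCoh_of_rank hE
  have h1 := euler_eq_dg k ((K707.TensL.T N).obj E)
  rw [K703.TwSS.dg_twist C hN hc, K703.TwSS.rk_twist hN hc, K707.Base.rk_of_rank hE, hE0] at h1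
  change 0 < Curv2.euler k X ((K707.TensL.T N).obj E)
  rw [h1]
  have hr' : (1 : ℤ) ≤ r := by exact_mod_cast hr
  nlinarith

/-- **The family of all semistable bundles** (X1a). -/
theorem exists_family_all :
    ∃ (n : ℕ) (T : Over (B0 k)) (j : T ⟶ sA k (MvPolynomial (Fin n) k)) (E : (PicF.XT (st k X) T).Modules),
      IsOpenImmersion j.left ∧ IsIntegral T.left ∧ BunMod.ussDetOK (st k X) r L T E ∧
      ∀ F : (PicF.XT (st k X) (Over.mk (𝟙 (B0 k)))).Modules,
        BunMod.ussDetOK (st k X) r L (Over.mk (𝟙 (B0 k))) F →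
        ∃ w : Over.mk (𝟙 (B0 k)) ⟶ T, Nonempty (pl k X w E ≅ F) := by
  have hint : IsIntegral X := K533.CurveBasic.isIntegral (k := k) (X ↘ Spec (CommRingCat.of k))
  obtain ⟨N, hN, H⟩ := exists_N (k := k) (X := X) hdim
  obtain ⟨n, T, j, E, hj, hE, hT⟩ := exists_family_sec hdim hr hL hL0 hN
  have key : ∀ F : (PicF.XT (st k X) (Over.mk (𝟙 (B0 k)))).Modules,
      BunMod.ussDetOK (st k X) r L (Over.mk (𝟙 (B0 k))) F →
        ∃ w : Over.mk (𝟙 (B0 k)) ⟶ T, Nonempty (pl k X w E ≅ F) := by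
    intro F hF
    obtain ⟨B, ⟨i⟩, h1, h2, h3, h4⟩ := exists_bundle hdim hL0 hF
    exact (hT F hF).2 ((hh_iff hN i).2 (H r B hr h1 h4))
  refine ⟨n, T, j, E, hj, ?_, hE, key⟩
  obtain ⟨F, hF⟩ := exists_pt hdim hr hL hL0 (Over.mk (𝟙 (B0 k)))
  obtain ⟨w, -⟩ := key F hF
  have hne : Nonempty T.left := ⟨w.left (IsLocalRing.closedPoint k)⟩
  have hI : IsIntegral (sA k (MvPolynomial (Fin n) k)).left :=
    inferInstanceAs (IsIntegral (Spec (CommRingCat.of (MvPolynomial (Fin n) k))))
  exact isIntegral_of_isOpenImmersion j.left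

/-- **The scheme of an atlas of `ussDetOK r L` is irreducible.** -/
theorem irreducibleSpace_atlas (A : AtlasC k X (BunMod.ussDetOK (st k X) r L)) : IrreducibleSpace A.Z.left := by
  obtain ⟨n, T, j, E, hj, hT, hE, H⟩ := exists_family_all hdim hr hL hL0
  refine A.irreducibleSpace hE fun c => ?_
  obtain ⟨w, ⟨i⟩⟩ := H (pl k X c A.E) (ussDetOK_pull (st k X) c A.ok)
  exact ⟨w, ⟨i.symm⟩⟩

/-- **The support of the theta ideal is preirreducible.** -/
theorem isPreirreducible_supp {N : X.Modules} (hN : PicF.IsInvertible N)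
    (A : AtlasC k X (BunMod.ussDetOK (st k X) r L)) (hs : K562.Jump.SuppCond A N) :
    IsPreirreducible ((thetaIdeal k N A.Z A.E).support : Set A.Z.left) := by
  have hint : IsIntegral X := K533.CurveBasic.isIntegral (k := k) (X ↘ Spec (CommRingCat.of k))
  obtain ⟨n, T, j, E, hj, hE, hT⟩ := exists_family_sec hdim hr hL hL0 hN
  rcases isEmpty_or_nonempty T.left with hemp | hne
  · -- no `k`-point in the support
    have := A.ft
    have hJ : JacobsonSpace A.Z.left := LocallyOfFiniteType.jacobsonSpace A.Z.hom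
    have h4 := JacobsonSpace.closure_inter_closedPoints_eq_closure
      (thetaIdeal k N A.Z A.E).support.isClosed.isLocallyClosed
    rw [(thetaIdeal k N A.Z A.E).support.isClosed.closure_eq] at h4
    have h5 : ((thetaIdeal k N A.Z A.E).support : Set A.Z.left) ∩ closedPoints A.Z.left = ∅ := by
      rw [Set.eq_empty_iff_forall_notMem]
      rintro z ⟨hz, hz'⟩
      obtain ⟨c, hc⟩ := A.exists_pt z hz'
      have h1 := (hs k (𝟙 _) c (IsLocalRing.closedPoint k)).1 (by rw [hc]; exact hz)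
      obtain ⟨w, -⟩ := (hT _ (ussDetOK_pull (st k X) c A.ok)).2 h1
      exact hemp.elim (w.left (IsLocalRing.closedPoint k))
    rw [h5, closure_empty] at h4
    rw [← h4]
    exact isPreirreducible_empty
  have hI : IsIntegral (sA k (MvPolynomial (Fin n) k)).left :=
    inferInstanceAs (IsIntegral (Spec (CommRingCat.of (MvPolynomial (Fin n) k))))
  have hTi : IsIntegral T.left := isIntegral_of_isOpenImmersion j.left
  have hNl : FlatMod.IsFinLocFree N :=
    Krr.H495.Rank.isFinLocFree_of_rank (Ega2.QCohLocal.isFinLocFreeOfRank_one_iff.mpr hN)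
  have hlf : ∀ {T : Over (B0 k)} {E : (PicF.XT (st k X) T).Modules}, BunMod.ussDetOK (st k X) r L T E →
      FlatMod.IsFinLocFree E := fun h => Krr.H495.Rank.isFinLocFree_of_rank h.1
  -- membership in the support at a point over a field
  have hmem : ∀ {T : Over (B0 k)} {E : (PicF.XT (st k X) T).Modules} (_ : BunMod.ussDetOK (st k X) r L T E)
      {Ω : Type u} [Field Ω] {s : Spec (CommRingCat.of Ω) ⟶ B0 k} (q : Over.mk s ⟶ T) (x : (Over.mk s).left),
      q.left x ∈ ((thetaIdeal k N T E).support : Set T.left) ↔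
        x ∈ ((thetaIdeal k N (Over.mk s) (pl k X q E)).support : Set (Over.mk s).left) := by
    intro T E hE Ω _ s q x
    rw [← K54.Theta.thetaIdeal_pl hdim.le hNl q (hlf hE), Scheme.IdealSheafData.support_comap]
    rfl
  have hiso : ∀ {T : Over (B0 k)} {E E' : (PicF.XT (st k X) T).Modules} (_ : BunMod.ussDetOK (st k X) r L T E)
      (_ : BunMod.ussDetOK (st k X) r L T E') (_ : Nonempty (E ≅ E')), thetaIdeal k N T E = thetaIdeal k N T E' := by
    rintro T E E' h h' ⟨i⟩
    exact K54.Theta.thetaIdeal_iso hdim.le hNl (hlf h) (hlf h') i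
  -- the support in `T` is everything
  have hall : ∀ t : T.left, t ∈ ((thetaIdeal k N T E).support : Set T.left) := by
    have hft : LocallyOfFiniteType T.hom := by
      rw [← Over.w j]
      have h1 : LocallyOfFiniteType (sA k (MvPolynomial (Fin n) k)).hom := by
        change LocallyOfFiniteType (Spec.map _)
        rw [HasRingHomProperty.Spec_iff (P := @LocallyOfFiniteType)]
        change (algebraMap k (MvPolynomial (Fin n) k)).FiniteType
        rw [RingHom.finiteType_algebraMap]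
        infer_instance
      infer_instance
    have hJ : JacobsonSpace T.left := LocallyOfFiniteType.jacobsonSpace T.hom
    have h4 := JacobsonSpace.closure_inter_closedPoints_eq_closure (X := T.left) isClosed_univ.isLocallyClosed
    rw [Set.univ_inter, closure_univ] at h4
    intro t
    have h5 : t ∈ closure (closedPoints T.left) := by rw [h4]; trivial
    refine closure_minimal ?_ (thetaIdeal k N T E).support.isClosed h5
    intro z hz
    let c : Over.mk (𝟙 (B0 k)) ⟶ T := Over.homMk (pointOfClosedPoint T.hom z hz) (pointOfClosedPoint_comp _ _ _)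
    have hc : ∀ p, c.left p = z := fun p => pointOfClosedPoint_apply _ _ _ p
    have hcE := ussDetOK_pull (st k X) c hE
    obtain ⟨d, hd⟩ := K562.Jump.exists_point A (𝟙 (B0 k)) (pl k X c E) hcE
    have hdE := ussDetOK_pull (st k X) d A.ok
    have h6 : ¬ Subsingleton (Coh.HH (PicF.XT (st k X) (Over.mk (𝟙 (B0 k))))
            (CohB1.tensorMod (pl k X d A.E) (cst k (Over.mk (𝟙 (B0 k))) N)) 0) :=
      (hT _ hdE).1 ⟨c, ⟨hd.some.symm⟩⟩
    have h7 := (hs k (𝟙 _) d (IsLocalRing.closedPoint k)).2 h6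
    rw [hmem A.ok, hiso hdE hcE hd, ← hmem hE, hc] at h7
    exact h7
  refine A.isPreirreducible_of_pt hE (thetaIdeal k N A.Z A.E).support.isClosed (fun c hc => ?_) ?_
  · have h1 := (hs k (𝟙 _) c (IsLocalRing.closedPoint k)).1 (hc _)
    obtain ⟨w, ⟨i⟩⟩ := (hT _ (ussDetOK_pull (st k X) c A.ok)).2 h1
    exact ⟨w, ⟨i.symm⟩⟩
  · rintro _ ⟨Ω, _, s, p, q, ⟨x, rfl⟩, hi⟩
    rw [hmem A.ok, hiso (ussDetOK_pull (st k X) p A.ok) (ussDetOK_pull (st k X) q hE) hi, ← hmem hE]
    exact hall _

end K524.X1Main
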